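import Cfsg.Agent.Mrg.Omega.NO3b.Chain.Frame
import Cfsg.Agent.Mrg.Omega.NO3b.Exit.TwoFac


/-!
# NotFF (c), local exit: (C2) at the last member of the chain (#18967, #18743)

`TwoFac.lean` without the minimality of `B`: `V_H` FF or `V_H ≰ O₂(C_G(Z))`.

* `Stage.adm`, `Stage.fr` : `WH S L` is admissible, the frame `Fr` for `H = nx S L X`;
* `Fr.main_of` : (γ) or (β); `Fr.Y_ff_of`, `Fr.exists_optY_of`, `Fr.two_of`;
* `Stage.two`, `Stage.exists_optY`, `Stage.exists_opt` at the last member.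
-/

set_option autoImplicit false

namespace Cfsg.Agent.Omega.NO3b.Chain

open Subgroup Cfsg
open Cfsg.Agent.ZN (o2 zc zl jj zj)
open Cfsg.Agent.ZN.ChoiceBase hiding mem_zc
open Cfsg.Agent.ZN.ChoiceSit (Syl exists_syl syl_conj o2_le_syl syl_not_dvd)
open Cfsg.Agent.MinSimple.EmptyTI (syl_of_le)
open Cfsg.Agent.Omega.NO3b.EZero (NotFF cent_symm cj_cent cj_norm cl le_cl cj_le_cl cl_le
  le_normalizer_cl oddGen_sup_syl Par)
open Cfsg.Agent.Omega.NO3b.Alpha (Fl)
open Cfsg.Agent.Omega.NO3b.NoEmp (Lines)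
open Cfsg.Agent.Omega.FFThm (ElemM OffM NoOverM)
open Cfsg.Agent.Omega.NOThreeL.Star (Opt Ok exists_opt zl_mono ff)
open Cfsg.Agent.Omega.NO3b.Wc
open Cfsg.Agent.Omega.NO3b.Exit
open Cfsg.Agent.MinSimple.VModule (zc_le_zl le_normalizer_zl le_normalizer_o2 o2_isPGroup le_o2 oddGen oddGen_le
  mem_normalizer_of_map_le)
open Cfsg.Agent.Omega.NOne (Flat.Hyp Flat.Bad Flat.EE Flat.WW)
open Cfsg.Agent.Omega.NO3b.K0.Mix (Pan Two)

universe u

variable {G : Type u} [Group G] [Finite G] {S : Sylow 2 G} {P L F T X : Subgroup G}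

/-- (γ) or (β) : the conclusion of `Fr.main`. -/
def MD (S : Sylow 2 G) (B H X : Subgroup G) : Prop :=
  (¬ NotFF (zl (S : Subgroup G) H) ∧
    ∃ A, Opt (zl (S : Subgroup G) H) A ∧ A ≤ B ∧ ¬ A ≤ o2 X ∧ OffM (cl (VB (S : Subgroup G) B) X) A) ∨
  (NotFF (zl (S : Subgroup G) H) ∧
    ¬ VL (S : Subgroup G) (LH (S : Subgroup G) H) ≤ o2 (centralizer (zc (S : Subgroup G) : Set G)) ∧
    ∃ F, MaxBad (VL (S : Subgroup G) (LH (S : Subgroup G) H)) F ∧
      Flat.WW (VL (S : Subgroup G) (LH (S : Subgroup G) H)) F ≤ B ∧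
      ¬ Flat.WW (VL (S : Subgroup G) (LH (S : Subgroup G) H)) F ≤ o2 X ∧
      OffM (cl (VB (S : Subgroup G) B) X) (Flat.WW (VL (S : Subgroup G) (LH (S : Subgroup G) H)) F))

section fr

variable {B H : Subgroup G} (f : Fr S B H X T) (a : Adm S L B)
include f a

/-- `V_H` is FF or not in `O₂(C_G(Z))`: (γ) or (β). -/
theorem main_of (hG : IsCharacteristicTwoType G) (hOff : StmtOff G) (hSne : (S : Subgroup G) ≠ ⊥)
    (h : ¬ NotFF (zl (S : Subgroup G) H) ∨
      ¬ zl (S : Subgroup G) H ≤ o2 (centralizer (zc (S : Subgroup G) : Set G))) : MD S B H X := by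
  by_cases hn : NotFF (zl (S : Subgroup G) H)
  · have h1 := h.resolve_left (not_not.2 hn)
    have hV : ¬ VL (S : Subgroup G) (LH (S : Subgroup G) H) ≤ o2 (centralizer (zc (S : Subgroup G) : Set G)) :=
      fun h2 => h1 ((f.zl_le_V' a hn).trans h2)
    exact Or.inr ⟨hn, hV, f.beta a hG hOff hSne hn hV⟩
  · exact Or.inl ⟨hn, f.gamma a hn⟩

/-- **`Y` is FF.** -/
theorem Y_ff_of (hG : IsCharacteristicTwoType G) (hOff : StmtOff G) (hm : MD S B H X) :
    ¬ NotFF (cl (VB (S : Subgroup G) B) ((S : Subgroup G) ⊔ X)) := by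
  intro hn
  have hYS : (S : Subgroup G) ≤ normalizer (cl (VB (S : Subgroup G) B) ((S : Subgroup G) ⊔ X) : Set G) :=
    le_sup_left.trans (le_normalizer_cl _ _)
  have key : ∀ D : Subgroup G, D ≤ B → ¬ D ≤ o2 X →
      ¬ D ≤ centralizer (cl (VB (S : Subgroup G) B) ((S : Subgroup G) ⊔ X) : Set G) := by
    intro D hDB hDX h0
    exact hDX ((le_inf (hDB.trans f.BT) (h0.trans (centralizer_le Fr.U_le_Y))).trans (f.cent_U a))
  have fin : ∀ D : Subgroup G, D ≤ B → OffM (cl (VB (S : Subgroup G) B) ((S : Subgroup G) ⊔ X)) D → False := by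
    intro D hDB hoff
    have hDS : D ≤ (S : Subgroup G) := hDB.trans a.wc.le
    have h3 := hn D (S.isPGroup'.to_le hDS) (hDS.trans hYS) hoff.sq hoff.comm hoff.ne
    exact absurd (FFThm.relIndex_le_iff.1 hoff.le) (not_le.2 h3)
  rcases hm with ⟨-, A, hA, h1, h2, -⟩ | ⟨hnn, -, F, hF, h1, h2, -⟩
  · exact fin A h1 (offM_of_opt hA (zl_cent (f.SH a) f.char2) (f.Y_le a) (key A h1 h2))
  · have h := root_LH (f.SH a) f.char2 hnn
    refine fin _ h1 (off_of hG hOff h hF (h1.trans a.wc.le) ((f.Y_le a).trans (f.zl_le_V' a hnn)) (f.Y_low a)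
      (key _ h1 h2))

/-- **An optimal offender `A ≤ B` of `Y = ⟨V^⟨S,X⟩⟩` with `A ≰ O₂(X)`.** -/
theorem exists_optY_of (hff : ¬ NotFF (cl (VB (S : Subgroup G) B) ((S : Subgroup G) ⊔ X))) :
    ∃ A, Opt (cl (VB (S : Subgroup G) B) ((S : Subgroup G) ⊔ X)) A ∧ A ≤ B ∧ ¬ A ≤ o2 X := by
  set Y := cl (VB (S : Subgroup G) B) ((S : Subgroup G) ⊔ X) with hY
  have hYn : (S : Subgroup G) ⊔ X ≤ normalizer (Y : Set G) := le_normalizer_cl _ _
  have hYS : (S : Subgroup G) ≤ normalizer (Y : Set G) := le_sup_left.trans hYn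
  obtain ⟨A0, hA0⟩ := exists_opt hff
  obtain ⟨n, hn, hnS⟩ := FFThm.exists_conj_le S hYS hA0.pg hA0.norm
  have hB : ∀ D, Opt Y D → D ≤ (S : Subgroup G) → D ≤ B := fun D hD hDS =>
    (le_inf hDS (f.max_le a hD.toOk hD.max hDS)).trans a.cs.le
  by_contra hcon
  push Not at hcon
  set K : Subgroup G := sSup {D | Opt Y D ∧ D ≤ (S : Subgroup G)} with hK
  have hKB : K ≤ B := sSup_le fun D hD => hB D hD.1 hD.2
  have hKX : K ≤ o2 X := sSup_le fun D hD => hcon D hD.1 (hB D hD.1 hD.2)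
  have hKn : (S : Subgroup G) ⊔ X ≤ normalizer (K : Set G) := by
    have h1 : ∀ g ∈ (S : Subgroup G) ⊔ X, (∀ D, Opt Y D → D ≤ (S : Subgroup G) → cj g D ≤ (S : Subgroup G)) →
        g ∈ normalizer (K : Set G) := by
      intro g hg h1
      refine mem_normalizer_of_map_le ?_
      change cj g K ≤ K
      rw [hK, cj_sSup]
      refine iSup_le fun D => ?_
      exact le_sSup (a := cj g D) ⟨D.2.1.cj (hYn hg), h1 D D.2.1 D.2.2⟩
    refine sup_le (fun s hs => h1 s (mem_sup_left hs) fun D _ hDS => ?_)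
      (fun x hx => h1 x (mem_sup_right hx) fun D hD hDS => ?_)
    · have h2 := cj_mono s hDS
      rwa [cj_eq_of_mem_normalizer (Subgroup.le_normalizer hs)] at h2
    · have h2 := cj_mono x (hcon D hD (hB D hD hDS))
      rw [cj_eq_of_mem_normalizer (le_normalizer_o2 _ hx)] at h2
      exact h2.trans ((o2_le_syl f.syl).trans f.TS)
  have hKV : K ≤ centralizer (VB (S : Subgroup G) B : Set G) := hKB.trans (by
    have := a.cs
    intro b hb
    rw [← this] at hb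
    exact hb.2)
  have hKY : K ≤ centralizer (Y : Set G) := by
    refine cent_symm (cl_le fun x hx => ?_)
    have h1 := cj_cent (g := x) (cent_symm hKV)
    rwa [cj_eq_of_mem_normalizer (hKn hx)] at h1
  have h2 : cj n A0 ∈ {D | Opt Y D ∧ D ≤ (S : Subgroup G)} := ⟨hA0.cj hn, hnS⟩
  exact (hA0.cj hn).ne ((le_sSup h2).trans hKY)

/-- **(C2)**: two noncentral chief factors of `X` in `⟨V^X⟩`. -/
theorem two_of (fl : Fl S (VB (S : Subgroup G) B) F T) (p : Par (VB (S : Subgroup G) B) F T X)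
    (hA : FFBr.AStmt.{u}) (hFF : FFThm.Stmt.{u}) (hG : IsCharacteristicTwoType G)
    (hff : ¬ NotFF (cl (VB (S : Subgroup G) B) ((S : Subgroup G) ⊔ X))) :
    Two (VB (S : Subgroup G) B) X := by
  by_contra hX
  have h := pan fl a.lines p fun g hg => Alpha.ti hG a.lines g hg
  set V := VB (S : Subgroup G) B with hV
  set Y := cl V ((S : Subgroup G) ⊔ X) with hY
  obtain ⟨A, hAo, hAB, hAX⟩ := exists_optY_of f a hff
  have hAT : A ≤ T := hAB.trans f.BT
  have hUY : cl V X ≤ Y := Fr.U_le_Y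
  have hYc : Y ≤ centralizer (Y : Set G) := f.Y_comm a
  have hU0Y : (⁅cl V X, oddGen X⁆ : Subgroup G) ≤ Y := Pan.U0_le.trans hUY
  have hne : ¬ A ≤ centralizer ((⁅cl V X, oddGen X⁆ : Subgroup G) : Set G) := fun h0 =>
    hAX (h.le_o2_of_cent Pan.X_norm_U0 h.U0_not_cent hAo.pg (hAT.trans f.syl.1) h0)
  have hoff := offM_of_max hAo.toOk hAo.max hYc hU0Y hne
  obtain ⟨y, hy, hyT, hyO⟩ := h.exists_fix hX (K0.noOv hA (fl.sylX p) (fl.isMinPar a.lines p))
    (K0.fullOff hA (fl.sylX p) (fl.isMinPar a.lines p)) hAT hAX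
    (fun x hx => centralizer_le hUY (hAo.sq x hx))
    (fun x hx z hz => centralizer_le hUY (hAo.comm x hx z hz)) (FFThm.relIndex_le_iff.1 hoff.le)
  refine hyO (Holo.cen_mod hFF (S := (S : Subgroup G)) (T := T) (X := X) (Y := Y) (V := V) (A := A)
    S.isPGroup' (le_sup_left.trans (le_normalizer_cl _ _)) (le_sup_right.trans (le_normalizer_cl _ _)) hYc
    (f.Y_sq a) f.TS f.syl f.mp (le_cl _ _) ?_ ?_ hAT hAo.toOk hAo.max hAX ?_ ⟨hU0Y hy, hyT⟩)
  · rw [a.cs]; exact f.BT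
  · exact fun D hD hok hm => f.max_le a hok hm hD
  · exact f.XZ.trans (centralizer_le (f.Y_inf_cent a))

end fr

/-! ### at a member of the chain -/

section stage

variable (h : Stage S L) (hc : IsCharacteristicTwoType G) (hne : zc (S : Subgroup G) ≠ ⊥)
include h hc hne

omit [Finite G] h hc in
theorem S_ne [Finite G] : (S : Subgroup G) ≠ ⊥ := fun h0 => hne (by
  rw [eq_bot_iff]
  intro x hx
  have h1 := (Cfsg.Agent.ZN.ChoiceBase.mem_zc.1 hx).1
  rwa [h0] at h1)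

/-- `V(L) ≤ O₂(C_G(Z))` -/
theorem Stage.low_V : VL (S : Subgroup G) L ≤ o2 (centralizer (zc (S : Subgroup G) : Set G)) :=
  h.toRoot.low hc (Final.stmtOff G) h.low hne

theorem Stage.adm : Adm S L (WH (S : Subgroup G) L) := Adm.of_root h.toRoot (h.low_V hc hne)

/-- The frame for a panel of `V(L)`. -/
theorem Stage.fr (f : Fl S (VL (S : Subgroup G) L) F T) (hZ : zc (S : Subgroup G) ≤ F)
    (p : Par (VL (S : Subgroup G) L) F T X) :
    Fr S (WH (S : Subgroup G) L) (nx (S : Subgroup G) L X) X T := by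
  obtain ⟨R, hR, hR2, h1, h2⟩ := h.loc hc hne f hZ p
  have hQ := f.Q0_le
  rw [h.toRoot.cs_V] at hQ
  exact
    { NB := le_sup_left
      XH := le_sup_right
      gen := le_rfl
      char2 := char2_of_loc hc (h.S_le.trans le_sup_left) hR2 hR (sup_le h1 h2)
      TS := f.T_le
      BT := hQ
      syl := f.sylX p
      mp := f.isMinPar (h.lines hc hne) p
      XZ := p.le.trans (centralizer_le hZ)
      nle := p.nle }

variable (f : Fl S (VL (S : Subgroup G) L) F T) (hZ : zc (S : Subgroup G) ≤ F)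
  (p : Par (VL (S : Subgroup G) L) F T X)
include f hZ p

/-- `Y = ⟨V^⟨S,X⟩⟩` is FF at the last member. -/
theorem Stage.Y_ff (hl : ¬ NotFF (zl (S : Subgroup G) (nx (S : Subgroup G) L X)) ∨
      ¬ zl (S : Subgroup G) (nx (S : Subgroup G) L X) ≤ o2 (centralizer (zc (S : Subgroup G) : Set G))) :
    ¬ NotFF (cl (VL (S : Subgroup G) L) ((S : Subgroup G) ⊔ X)) :=
  Y_ff_of (h.fr hc hne f hZ p) (h.adm hc hne) hc (Final.stmtOff G)
    (main_of (h.fr hc hne f hZ p) (h.adm hc hne) hc (Final.stmtOff G) (S_ne hne) hl)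

/-- an optimal offender of `Y` -/
theorem Stage.exists_optY (hl : ¬ NotFF (zl (S : Subgroup G) (nx (S : Subgroup G) L X)) ∨
      ¬ zl (S : Subgroup G) (nx (S : Subgroup G) L X) ≤ o2 (centralizer (zc (S : Subgroup G) : Set G))) :
    ∃ A, Opt (cl (VL (S : Subgroup G) L) ((S : Subgroup G) ⊔ X)) A ∧ A ≤ WH (S : Subgroup G) L ∧ ¬ A ≤ o2 X :=
  exists_optY_of (h.fr hc hne f hZ p) (h.adm hc hne) (h.Y_ff hc hne f hZ p hl)

/-- **(C2)** at the last member -/
theorem Stage.two (hl : ¬ NotFF (zl (S : Subgroup G) (nx (S : Subgroup G) L X)) ∨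
      ¬ zl (S : Subgroup G) (nx (S : Subgroup G) L X) ≤ o2 (centralizer (zc (S : Subgroup G) : Set G))) :
    Two (VL (S : Subgroup G) L) X :=
  two_of (h.fr hc hne f hZ p) (h.adm hc hne) f p FFBr.aStmt FFBr.ffthm hc (h.Y_ff hc hne f hZ p hl)

/-- **(γ)**: an optimal offender of `V_H` in `W(L)`, not in `O₂(X)` -/
theorem Stage.exists_opt (hff : ¬ NotFF (zl (S : Subgroup G) (nx (S : Subgroup G) L X))) :
    ∃ A, Opt (zl (S : Subgroup G) (nx (S : Subgroup G) L X)) A ∧ A ≤ WH (S : Subgroup G) L ∧ ¬ A ≤ o2 X := by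
  obtain ⟨A, hA, h1, h2, -⟩ := (h.fr hc hne f hZ p).gamma (h.adm hc hne) hff
  exact ⟨A, hA, h1, h2⟩

end stage

end Cfsg.Agent.Omega.NO3b.Chain
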