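import Cfsg.Agent.Mrg.Omega.NO3b.Chain.Frame
import Cfsg.Agent.Mrg.Omega.NO3b.Exit.LocBar

section


/-!
# NotFF (c), local exit: the group half of the block structure (MIN), (NE), (CZ)

`L` the last member of the chain from `P ∈ P*(S)`; `U` an abelian group, `h : H ≤ N_G(U)`, `M(L) ≤ H`, `V(L) ≤ U`;
`XX h` the group induced by `H` on `U`, `im h A` the image of `A`, `ad hc K` the subgroup `K ∩ U` (`Exit/MU.lean`).

* `pre h N` : the preimage of `N` in `G`;
* `min_im` : **(MIN)** `N` normalised by `O²(P)` and `S` contains `O²(P)`, or `S ∩ N` centralises `V_P`;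
* `ne_im` : **(NE)** `N ⊴ M(L)` with the property hX and `[V(L), S ∩ N] ≠ 1`: then `[V_P, S ∩ N] ≠ 1`, `O²(P) ≤ N`;
* `cz_im` : **(CZ)** `C_{V(L)}(⟨S, O²(P)⟩) = 1`;
* `gen_im` : a subgroup of `U` normalised by `M(L)` which contains `C_{V(L)}(S)` contains `V(L)`.
-/

set_option autoImplicit false

namespace Cfsg.Agent.Omega.NO3b.Chain

open Subgroup Cfsg
open Cfsg.Agent.ZN (o2 zc zl jj zj)
open Cfsg.Agent.ZN.ChoiceBase hiding mem_zc
open Cfsg.Agent.ZN.ChoiceSit (Syl o2_le_syl)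
open Cfsg.Agent.Omega.MinPar Cfsg.Agent.Omega.Frame Cfsg.Agent.Omega.FrameNOFF
open Cfsg.Agent.Omega.NO3b.EZero (NotFF Par cent_symm oddGen_sup_syl)
open Cfsg.Agent.Omega.NO3b.Wc
open Cfsg.Agent.MinSimple.VModule (oddGen oddGen_le le_normalizer_zl zl_le le_centralizer_zc mem_zc)
open Cfsg.Agent.Omega.NO3b.Exit.Bridge
open Cfsg.Agent.Omega.NO3b.Exit.LocBar (pr_mem_im)
open Cfsg.Agent.Omega.FFBr (XX pr im mem_im)
open Cfsg.Agent.MinSimple.EmptyTI (syl_of_le)

universe u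

section pre

variable {G : Type u} [Group G] {H U : Subgroup G} (h : H ≤ normalizer (U : Set G))

/-- The preimage of `N` in `G`. -/
def pre (N : Subgroup (XX h)) : Subgroup G := (N.comap (pr h)).map H.subtype

theorem mem_pre {N : Subgroup (XX h)} {g : G} : g ∈ pre h N ↔ ∃ hg : g ∈ H, pr h ⟨g, hg⟩ ∈ N := by
  constructor
  · rintro ⟨x, hx, rfl⟩
    exact ⟨x.2, hx⟩
  · rintro ⟨hg, h1⟩
    exact ⟨⟨g, hg⟩, h1, rfl⟩

theorem pre_le (N : Subgroup (XX h)) : pre h N ≤ H := map_subtype_le _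

/-- The elements of `A` normalise the preimage of `N` if the elements of the image of `A` conjugate `N` into `N`. -/
theorem le_normalizer_pre {N : Subgroup (XX h)} {A : Subgroup G} (hA : A ≤ H)
    (hN : ∀ a ∈ im h A, ∀ n ∈ N, a * n * a⁻¹ ∈ N) : A ≤ normalizer (pre h N : Set G) := by
  have h1 : ∀ a ∈ A, ∀ n ∈ pre h N, a * n * a⁻¹ ∈ pre h N := by
    intro a ha n hn
    obtain ⟨hn, hn'⟩ := (mem_pre h).1 hn
    have h2 := hN _ (pr_mem_im h ha (hA ha)) _ hn'
    rw [← map_mul, ← map_inv, ← map_mul] at h2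
    exact (mem_pre h).2 ⟨_, h2⟩
  intro a ha
  rw [mem_normalizer_iff]
  intro n
  refine ⟨fun hn => h1 a ha n hn, fun hn => ?_⟩
  have h2 := h1 a⁻¹ (inv_mem ha) _ hn
  have e : a⁻¹ * (a * n * a⁻¹) * a⁻¹⁻¹ = n := by group
  rwa [e] at h2

theorem le_pre {N : Subgroup (XX h)} {A : Subgroup G} (hA : A ≤ H) (hN : im h A ≤ N) : A ≤ pre h N :=
  fun _ ha => (mem_pre h).2 ⟨hA ha, hN (pr_mem_im h ha (hA ha))⟩

theorem im_le {N : Subgroup (XX h)} {A : Subgroup G} (hA : A ≤ pre h N) : im h A ≤ N := by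
  rintro _ ⟨a, ha, rfl⟩
  obtain ⟨_, h1⟩ := (mem_pre h).1 (hA ha)
  exact h1

variable {hc : U ≤ centralizer (U : Set G)}

/-- The elements of `im h A ∩ N` centralise `W` iff `A ∩ pre N` does. -/
theorem cent_iff {N : Subgroup (XX h)} {A W : Subgroup G} (hW : W ≤ U) :
    (∀ s ∈ im h A ⊓ N, ∀ v ∈ ad hc W, s • v = v) ↔ A ⊓ pre h N ≤ centralizer (W : Set G) := by
  constructor
  · rintro h1 a ⟨ha, ha'⟩
    obtain ⟨haH, haN⟩ := (mem_pre h).1 ha'
    rw [mem_centralizer_iff]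
    intro w hw
    exact ((pr_smul_eq_iff' h).1 (h1 _ ⟨pr_mem_im h ha haH, haN⟩ (mk hc (hW hw)) hw)).symm
  · rintro h1 _ ⟨⟨a, ha, rfl⟩, haN⟩ v hv
    refine (pr_smul_eq_iff' h).2 (mem_centralizer_iff.1 (h1 (x := a) ⟨ha, ?_⟩) _ hv).symm
    exact (mem_pre h).2 ⟨a.2, haN⟩

end pre

variable {G : Type u} [Group G] [Finite G] {S : Sylow 2 G} {P L : Subgroup G}
  {H U : Subgroup G} (h : H ≤ normalizer (U : Set G)) {hcU : U ≤ centralizer (U : Set G)}

theorem Stage.zl_le_of_le (hL : Root S L) (hPL : P ≤ L) : zl (S : Subgroup G) P ≤ VL (S : Subgroup G) L :=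
  NOThreeL.Star.zl_mono _ (hPL.trans hL.L_le)

/-- `P = O²(P) S` -/
theorem oddGen_sup (hPar : IsPar (S : Subgroup G) P) : oddGen P ⊔ (S : Subgroup G) = P :=
  oddGen_sup_syl (syl_of_le hPar.le)

/-- **(MIN)** -/
theorem min_im (hc : IsCharacteristicTwoType G) (hPar : IsPar (S : Subgroup G) P) (hPH : P ≤ H)
    (hVU : zl (S : Subgroup G) P ≤ U) (N : Subgroup (XX h))
    (hO : ∀ o ∈ im h (oddGen P), ∀ n ∈ N, o * n * o⁻¹ ∈ N)
    (hS : ∀ s ∈ im h (S : Subgroup G), ∀ n ∈ N, s * n * s⁻¹ ∈ N) :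
    im h (oddGen P) ≤ N ∨ ∀ s ∈ im h (S : Subgroup G) ⊓ N, ∀ v ∈ ad hcU (zl (S : Subgroup G) P), s • v = v := by
  have h1 : P ≤ normalizer (pre h N : Set G) := by
    rw [← oddGen_sup hPar]
    exact sup_le (le_normalizer_pre h ((oddGen_le P).trans hPH) hO) (le_normalizer_pre h (hPar.le.trans hPH) hS)
  rcases oddGen_le_or hc hPar h1 with h2 | h2
  · exact Or.inl (im_le h h2)
  · exact Or.inr ((cent_iff h hVU).2 h2)

/-- `C_{V(L)}(S) = Ω₁(Z(S))` -/
theorem mem_zc_of (hL : Root S L) {z : G} (hz : z ∈ VL (S : Subgroup G) L)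
    (hzS : z ∈ centralizer ((S : Subgroup G) : Set G)) : z ∈ zc (S : Subgroup G) :=
  mem_zc.2 ⟨hL.V_le_S hz, fun s hs => mem_centralizer_iff.1 hzS s hs, hL.V_sq z hz⟩

/-- hX of `lemT_fix`, from the property of `N`. -/
theorem fix_of (hSH : (S : Subgroup G) ≤ H) (hVU : VL (S : Subgroup G) L ≤ U) (hL : Root S L) (N : Subgroup (XX h))
    (hN : ∀ x ∈ N, (∀ z ∈ ad hcU (VL (S : Subgroup G) L), (∀ s ∈ im h (S : Subgroup G), s • z = z) → x • z = z) →
      ∀ v ∈ ad hcU (VL (S : Subgroup G) L), (∀ s ∈ im h (S : Subgroup G) ⊓ N, s • v = v) → x • v = v)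
    {X : Subgroup G} (hXZ : X ≤ centralizer (zc (S : Subgroup G) : Set G)) (hXN : oddGen X ≤ pre h N) :
    oddGen X ≤ centralizer ((VL (S : Subgroup G) L ⊓
      centralizer (((S : Subgroup G) ⊓ pre h N : Subgroup G) : Set G) : Subgroup G) : Set G) := by
  intro x hx
  rw [mem_centralizer_iff]
  rintro v ⟨hv, hv'⟩
  obtain ⟨hxH, hxN⟩ := (mem_pre h).1 (hXN hx)
  refine ((pr_smul_eq_iff' (hc := hcU) h (g := ⟨x, hxH⟩) (w := mk hcU (hVU hv))).1
    (hN _ hxN (fun z hz hzS => ?_) (mk hcU (hVU hv)) hv fun s hs => ?_)).symm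
  · have h1 : val z ∈ zc (S : Subgroup G) := by
      refine mem_zc_of hL hz (mem_centralizer_iff.2 fun s hs => ?_)
      exact (pr_smul_eq_iff' h).1 (hzS _ (pr_mem_im h hs (hSH hs)))
    exact (pr_smul_eq_iff' h).2 (mem_centralizer_iff.1 (hXZ (oddGen_le X hx)) _ h1).symm
  · obtain ⟨⟨a, ha, rfl⟩, haN⟩ := hs
    refine (pr_smul_eq_iff' h).2 ?_
    exact mem_centralizer_iff.1 hv' (a : G) ⟨ha, (mem_pre h).2 ⟨a.2, haN⟩⟩

/-- **(NE)** -/
theorem ne_im (hc : IsCharacteristicTwoType G) (hne : zc (S : Subgroup G) ≠ ⊥) (hPar : IsPar (S : Subgroup G) P)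
    (hP : Stage S P) (r : Reach S P L) (hMH : ML (S : Subgroup G) L ≤ H) (hVU : VL (S : Subgroup G) L ≤ U)
    (N : Subgroup (XX h)) (hNM : ∀ m ∈ im h (ML (S : Subgroup G) L), ∀ n ∈ N, m * n * m⁻¹ ∈ N)
    (hN : ∀ x ∈ N, (∀ z ∈ ad hcU (VL (S : Subgroup G) L), (∀ s ∈ im h (S : Subgroup G), s • z = z) → x • z = z) →
      ∀ v ∈ ad hcU (VL (S : Subgroup G) L), (∀ s ∈ im h (S : Subgroup G) ⊓ N, s • v = v) → x • v = v)
    (hmv : ¬ ∀ s ∈ im h (S : Subgroup G) ⊓ N, ∀ v ∈ ad hcU (VL (S : Subgroup G) L), s • v = v) :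
    (¬ ∀ s ∈ im h (S : Subgroup G) ⊓ N, ∀ v ∈ ad hcU (zl (S : Subgroup G) P), s • v = v) ∧
      im h (oddGen P) ≤ N := by
  have hst := r.stage hc hne hP
  have hL := hst.toRoot
  have hR := le_normalizer_pre h hMH hNM
  have hPV : zl (S : Subgroup G) P ≤ U := (Stage.zl_le_of_le hL (r.le hc hne hP)).trans hVU
  have hX : ∀ X : Subgroup G, X ≤ ML (S : Subgroup G) L → X ≤ centralizer (zc (S : Subgroup G) : Set G) →
      oddGen X ≤ pre h N → oddGen X ≤ centralizer ((VL (S : Subgroup G) L ⊓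
        centralizer (((S : Subgroup G) ⊓ pre h N : Subgroup G) : Set G) : Subgroup G) : Set G) :=
    fun X _ hXZ hXN => fix_of h (hL.S_le.trans hMH) hVU hL N hN hXZ hXN
  have hmv' : ¬ (S : Subgroup G) ⊓ pre h N ≤ centralizer (VL (S : Subgroup G) L : Set G) :=
    fun h1 => hmv ((cent_iff h hVU).2 h1)
  refine ⟨fun h1 => hmv' (lemT_fix hc hne hP r hR hX ((cent_iff h hPV).1 h1)), im_le h ?_⟩
  exact oddGen_le_of_not hc hne hPar hP r hR hX hmv'

/-- **(CZ)** -/
theorem cz_im (hPar : IsPar (S : Subgroup G) P) (hn : NonLoc P (CZ (S : Subgroup G))) (hL : Root S L) (hPH : P ≤ H)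
    (z : MU hcU) (hz : z ∈ ad hcU (VL (S : Subgroup G) L)) (hzS : ∀ s ∈ im h (S : Subgroup G), s • z = z)
    (hzO : ∀ o ∈ im h (oddGen P), o • z = z) : z = 0 := by
  have h1 : val z ∈ zc (S : Subgroup G) := by
    refine mem_zc_of hL hz (mem_centralizer_iff.2 fun s hs => ?_)
    exact (pr_smul_eq_iff' h).1 (hzS _ (pr_mem_im h hs (hPH (hPar.le hs))))
  have h2 : P ≤ centralizer ((zpowers (val z) : Subgroup G) : Set G) := by
    rw [← oddGen_sup hPar]
    refine sup_le ?_ ?_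
    · rw [le_centralizer_iff, zpowers_le, mem_centralizer_iff]
      intro o ho
      exact (pr_smul_eq_iff' h).1 (hzO _ (pr_mem_im h ho (hPH (oddGen_le P ho))))
    · refine (le_centralizer_zc _).trans (centralizer_le ?_)
      exact (zpowers_le.2 h1)
  have h3 := hn (zpowers (val z)) (S.isPGroup'.to_le ((zpowers_le.2 h1).trans
    (MinSimple.VModule.zc_le _))) (h2.trans (centralizer_le_normalizer _)) (by
      refine le_trans ?_ (centralizer_le_normalizer _)
      exact centralizer_le (zpowers_le.2 h1))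
  rw [zpowers_eq_bot] at h3
  exact val_inj (h3.trans val_zero.symm)

/-- `V(L) = ⟨C_{V(L)}(S)^{M(L)}⟩` -/
theorem gen_im (hMH : ML (S : Subgroup G) L ≤ H) (hVU : VL (S : Subgroup G) L ≤ U)
    (W : AddSubgroup (MU hcU)) (hW : ∀ m ∈ im h (ML (S : Subgroup G) L), ∀ w ∈ W, m • w ∈ W)
    (hz : ∀ v ∈ ad hcU (VL (S : Subgroup G) L), (∀ s ∈ im h (S : Subgroup G), s • v = v) → v ∈ W) :
    ad hcU (VL (S : Subgroup G) L) ≤ W := by
  have h1 : ∀ m ∈ ML (S : Subgroup G) L, ∀ w ∈ un W, m * w * m⁻¹ ∈ un W := by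
    rintro m hm _ ⟨w, hw, rfl⟩
    exact ⟨_, hW _ (pr_mem_im h hm (hMH hm)) w hw, rfl⟩
  have h2 : ML (S : Subgroup G) L ≤ normalizer (un W : Set G) := by
    intro m hm
    rw [mem_normalizer_iff]
    intro n
    refine ⟨fun hn => h1 m hm n hn, fun hn => ?_⟩
    have h3 := h1 m⁻¹ (inv_mem hm) _ hn
    have e : m⁻¹ * (m * n * m⁻¹) * m⁻¹⁻¹ = n := by group
    rwa [e] at h3
  have h3 : zc (S : Subgroup G) ≤ un W := by
    intro z hzz
    have hzV : z ∈ VL (S : Subgroup G) L := Root.zc_le_V hzz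
    refine ⟨mk hcU (hVU hzV), hz _ hzV ?_, rfl⟩
    rintro _ ⟨a, ha, rfl⟩
    exact (pr_smul_eq_iff' h).2 ((mem_zc.1 hzz).2.1 _ ha)
  have h4 : VL (S : Subgroup G) L ≤ un W := zl_le h3 h2
  intro w hw
  exact val_mem_un.1 (h4 hw)

end Cfsg.Agent.Omega.NO3b.Chain

end

section


/-!
# (C)(2) of GammaFF, part 1: LEMMA T over a local group which contains `P*(S)` (helper194, #20969)

`M` local, `V_{P'} ≤ V₀` for all `P' ∈ P*(S)` in `M`; `M` normalises `R`, `D = S ∩ R`.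

* `lemT_norm` : if `[V₀, D] = 1` and `O²(X)` centralises `C_{V_M}(D)` for all `X ≤ C_M(Z)` with `O²(X) ≤ R`, then
  `[V_M, D] = 1`;
* `ne_norm` : **(NE)** for `P ≤ M(L)` with `V_{P'} ≤ V_P` for all `P' ∈ P*(S)`.
-/

set_option autoImplicit false

namespace Cfsg.Agent.Omega.NO3b.CTwoFF

open Subgroup Cfsg
open Cfsg.Agent.ZN (o2 zc zl jj zj)
open Cfsg.Agent.ZN.ChoiceBase hiding mem_zc
open Cfsg.Agent.ZN.ChoiceSit (Syl o2_le_syl)
open Cfsg.Agent.Omega.MinPar Cfsg.Agent.Omega.Frame Cfsg.Agent.Omega.FrameNOFF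
open Cfsg.Agent.Omega.NO3b.EZero (NotFF Par cent_symm oddGen_sup_syl)
open Cfsg.Agent.Omega.NO3b.Wc
open Cfsg.Agent.Omega.NO3b.Chain
open Cfsg.Agent.MinSimple.VModule (oddGen oddGen_le oddGen_le_of_sup le_normalizer_zl le_normalizer_o2 zl_le
  le_centralizer_zc zc_le_zl le_normalizer_oddGen mem_zc)
open Cfsg.Agent.Omega.NO3b.Exit.Bridge
open Cfsg.Agent.Omega.NO3b.Exit.LocBar (pr_mem_im)
open Cfsg.Agent.Omega.FFBr (XX pr im mem_im)

universe u

variable {G : Type u} [Group G] [Finite G] {S : Sylow 2 G} {M V₀ R : Subgroup G}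

/-- `P ∈ P(S)` which normalises `Z` centralises `Z`. -/
theorem le_centralizer_of_par {P : Subgroup G} (hP : IsPar (S : Subgroup G) P)
    (hz : P ≤ normalizer (zc (S : Subgroup G) : Set G)) : P ≤ centralizer (zc (S : Subgroup G) : Set G) := by
  have hS : (S : Subgroup G) ≤ centralizer (zc (S : Subgroup G) : Set G) := le_centralizer_zc _
  rcases hP.sup_eq_or_inf_le S (N := P ⊓ centralizer (zc (S : Subgroup G) : Set G)) inf_le_left
    (le_normalizer_inf Subgroup.le_normalizer (le_normalizer_centralizer hz)) with h1 | h1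
  · rw [← h1]
    exact sup_le inf_le_right hS
  · exfalso
    apply hP.not_le
    have h2 : (S : Subgroup G) ≤ o2 P := (le_inf le_rfl (le_inf hP.le hS)).trans h1
    have h3 : o2 P = (S : Subgroup G) := le_antisymm (hP.isLoc.o2_le S) h2
    rw [← h3]
    exact le_normalizer_o2 P

/-- **LEMMA T** over a local group. -/
theorem lemT_norm (hc : IsCharacteristicTwoType G) (hM : IsLoc (S : Subgroup G) M)
    (hR : M ≤ normalizer (R : Set G))
    (hV : ∀ P' : Subgroup G, IsParS (S : Subgroup G) P' → P' ≤ M → zl (S : Subgroup G) P' ≤ V₀)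
    (hX : ∀ X : Subgroup G, X ≤ M → X ≤ centralizer (zc (S : Subgroup G) : Set G) →
      oddGen X ≤ R → oddGen X ≤ centralizer ((zl (S : Subgroup G) M ⊓
        centralizer (((S : Subgroup G) ⊓ R : Subgroup G) : Set G) : Subgroup G) : Set G))
    (h0 : (S : Subgroup G) ⊓ R ≤ centralizer (V₀ : Set G)) :
    (S : Subgroup G) ⊓ R ≤ centralizer (zl (S : Subgroup G) M : Set G) := by
  set D : Subgroup G := (S : Subgroup G) ⊓ R with hD
  set W : Subgroup G := zl (S : Subgroup G) M ⊓ centralizer (D : Set G) with hW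
  have hWn : ∀ {X : Subgroup G}, X ≤ M → X ≤ normalizer (D : Set G) → X ≤ normalizer (W : Set G) :=
    fun hXM hXD => le_normalizer_inf (hXM.trans (le_normalizer_zl _ _)) (le_normalizer_centralizer hXD)
  have hSW : (S : Subgroup G) ≤ normalizer (W : Set G) :=
    hWn hM.le (le_normalizer_inf Subgroup.le_normalizer (hM.le.trans hR))
  have key : M ≤ normalizer (W : Set G) := by
    refine hM.le_of_forall S ?_ fun P' hP' hPM => ?_
    · exact hWn inf_le_left (le_normalizer_inf inf_le_right (inf_le_left.trans hR))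
    · have hoD : D ≤ o2 P' → P' ≤ normalizer (W : Set G) := by
        intro h1
        refine hWn hPM ?_
        have h2 : D = o2 P' ⊓ R :=
          le_antisymm (le_inf h1 inf_le_right) (inf_le_inf_right _ (hP'.isLoc.o2_le S))
        rw [h2]
        exact le_normalizer_inf (le_normalizer_o2 P') (hPM.trans hR)
      by_cases hz : P' ≤ normalizer (zc (S : Subgroup G) : Set G)
      · rcases hP'.sup_eq_or_inf_le S (N := P' ⊓ R) inf_le_left
          (le_normalizer_inf Subgroup.le_normalizer (hPM.trans hR)) with h1 | h1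
        · have h2 : oddGen P' ≤ R :=
            (oddGen_le_of_sup (le_normalizer_inf Subgroup.le_normalizer (hPM.trans hR)) h1.ge hP'.le inf_le_left
              S.isPGroup').trans inf_le_right
          have h3 := hX P' hPM (le_centralizer_of_par hP' hz) h2
          rw [← oddGen_sup hP']
          exact sup_le (h3.trans (centralizer_le_normalizer _)) hSW
        · exact hoD ((le_inf inf_le_left (le_inf (inf_le_left.trans hP'.le) inf_le_right)).trans h1)
      · have hPs : IsParS (S : Subgroup G) P' := ⟨hP', hz⟩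
        apply hoD
        rw [← IsParS.inf_centralizer S hc hPs]
        exact le_inf inf_le_left (h0.trans (centralizer_le (hV P' hPs hPM)))
  have h1 : zl (S : Subgroup G) M ≤ W := by
    refine zl_le (le_inf (zc_le_zl _ _) ?_) key
    exact cent_symm (inf_le_left.trans (le_centralizer_zc _))
  exact cent_symm (h1.trans inf_le_right)

variable {P L : Subgroup G}

/-- `M(L)` is local. -/
theorem isLoc_ML (hL : Root S L) (hne : zc (S : Subgroup G) ≠ ⊥) :
    IsLoc (S : Subgroup G) (ML (S : Subgroup G) L) := by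
  refine isLoc_of_le_normalizer S hL.S_le (S.isPGroup'.to_le (WH_le_S (S : Subgroup G) L)) (fun h0 => hne ?_) le_rfl
  exact le_bot_iff.1 (hL.zc_le_WH.trans h0.le)

variable {H U : Subgroup G} (h : H ≤ normalizer (U : Set G)) {hcU : U ≤ centralizer (U : Set G)}

/-- **(NE)** -/
theorem ne_norm (hc : IsCharacteristicTwoType G) (hne : zc (S : Subgroup G) ≠ ⊥) (hPar : IsPar (S : Subgroup G) P)
    (hL : Root S L) (hPM : P ≤ ML (S : Subgroup G) L)
    (hV : ∀ P' : Subgroup G, IsParS (S : Subgroup G) P' → P' ≤ ML (S : Subgroup G) L →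
      zl (S : Subgroup G) P' ≤ zl (S : Subgroup G) P)
    (hMH : ML (S : Subgroup G) L ≤ H) (hVU : VL (S : Subgroup G) L ≤ U)
    (N : Subgroup (XX h)) (hNM : ∀ m ∈ im h (ML (S : Subgroup G) L), ∀ n ∈ N, m * n * m⁻¹ ∈ N)
    (hN : ∀ x ∈ N, (∀ z ∈ ad hcU (VL (S : Subgroup G) L), (∀ s ∈ im h (S : Subgroup G), s • z = z) → x • z = z) →
      ∀ v ∈ ad hcU (VL (S : Subgroup G) L), (∀ s ∈ im h (S : Subgroup G) ⊓ N, s • v = v) → x • v = v)
    (hmv : ¬ ∀ s ∈ im h (S : Subgroup G) ⊓ N, ∀ v ∈ ad hcU (VL (S : Subgroup G) L), s • v = v) :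
    (¬ ∀ s ∈ im h (S : Subgroup G) ⊓ N, ∀ v ∈ ad hcU (zl (S : Subgroup G) P), s • v = v) ∧
      im h (oddGen P) ≤ N := by
  have hR := le_normalizer_pre h hMH hNM
  have hPV : zl (S : Subgroup G) P ≤ U := (NOThreeL.Star.zl_mono _ hPM).trans hVU
  have hX : ∀ X : Subgroup G, X ≤ ML (S : Subgroup G) L → X ≤ centralizer (zc (S : Subgroup G) : Set G) →
      oddGen X ≤ pre h N → oddGen X ≤ centralizer ((VL (S : Subgroup G) L ⊓
        centralizer (((S : Subgroup G) ⊓ pre h N : Subgroup G) : Set G) : Subgroup G) : Set G) :=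
    fun X _ hXZ hXN => fix_of h (hL.S_le.trans hMH) hVU hL N hN hXZ hXN
  have hmv' : ¬ (S : Subgroup G) ⊓ pre h N ≤ centralizer (VL (S : Subgroup G) L : Set G) :=
    fun h1 => hmv ((cent_iff h hVU).2 h1)
  have hT : ¬ (S : Subgroup G) ⊓ pre h N ≤ centralizer (zl (S : Subgroup G) P : Set G) :=
    fun h1 => hmv' (lemT_norm hc (isLoc_ML hL hne) hR hV hX h1)
  exact ⟨fun h1 => hT ((cent_iff h hPV).1 h1),
    im_le h ((oddGen_le_or hc hPar (hPM.trans hR)).resolve_right hT)⟩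

end Cfsg.Agent.Omega.NO3b.CTwoFF

end
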