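import Cfsg.Agent.Mrg.Omega.NO3b.Chain.Group
import Cfsg.Agent.Mrg.Omega.NO3b.Exit.TenSplit
import Cfsg.Agent.Mrg.Omega.NO3b.Exit.BO
import Cfsg.Agent.Mrg.Omega.NO3b.CTwoFF.NF

section


/-!
# NotFF (c), local exit: the shape of `V_P` (helper255, bb 20076, 20845)

`L` is reached from `P ∈ P*(S)`; `U`, `h : H ≤ N_G(U)`, `M(L) ≤ H`, `V(L) ≤ U`;
`B : Blk0 .. (im h M(L)) KV (im h S)` on `ad V(L)`.

* `zl_le_odd` : `V_P = ⟨Z^{O²(P)}⟩`;
* `pf` : `PF B (im h O²(P)) (ad V_P)` (helper697's (MIN), (NE), (CZ));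
* `gdat` : `GDat V_P O²(P) S`;
* **`exists_shape`** : `V_P` is the direct product of subgroups `E_j`, irreducible under `P`, pairwise isomorphic as
  `O²(P)`- and as `S`-groups, not centralised by `O²(P)`.
-/

set_option autoImplicit false

namespace Cfsg.Agent.Omega.NO3b.Chain

open Subgroup Cfsg
open Cfsg.Agent.ZN (o2 zc zl jj zj)
open Cfsg.Agent.ZN.ChoiceBase hiding mem_zc
open Cfsg.Agent.ZN.ChoiceSit (Syl o2_le_syl)
open Cfsg.Agent.Omega.MinPar Cfsg.Agent.Omega.Frame Cfsg.Agent.Omega.FrameNOFF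
open Cfsg.Agent.Omega.NO3b.EZero (NotFF Par cent_symm oddGen_sup_syl)
open Cfsg.Agent.Omega.NO3b.Wc
open Cfsg.Agent.MinSimple.VModule (oddGen oddGen_le le_normalizer_zl zl_le le_centralizer_zc mem_zc zc_le_zl zc_sq
  zc_comm le_normalizer_oddGen)
open Cfsg.Agent.Omega.NO3b.Exit.Bridge
open Cfsg.Agent.Omega.NO3b.Exit.LocBar (pr_mem_im im_mono im_smul)
open Cfsg.Agent.Omega.NO3b.Exit.BlkZ (Blk0 PF)
open Cfsg.Agent.Omega.NO3b.Exit.Descent (ring op op_mem GDat)
open Cfsg.Agent.Omega.FFBr (XX pr im mem_im)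

universe u

variable {G : Type u} [Group G] [Finite G] {S : Sylow 2 G} {P L : Subgroup G}

/-- `V_P = ⟨Z^{O²(P)}⟩` -/
theorem zl_le_odd (hPar : IsPar (S : Subgroup G) P) {A : Subgroup G} (hZ : zc (S : Subgroup G) ≤ A)
    (hO : ∀ o ∈ oddGen P, ∀ a ∈ A, o * a * o⁻¹ ∈ A) : zl (S : Subgroup G) P ≤ A := by
  refine iSup_le fun g => ?_
  rintro _ ⟨z, hz, rfl⟩
  have hg : (g : G) ∈ oddGen P ⊔ (S : Subgroup G) := by rw [oddGen_sup hPar]; exact g.2
  have hn : (S : Subgroup G) ≤ normalizer (oddGen P : Set G) := hPar.le.trans (le_normalizer_oddGen P)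
  rw [sup_comm] at hg
  have hn2 : ((oddGen P).subgroupOf ((S : Subgroup G) ⊔ oddGen P)).Normal :=
    normal_subgroupOf_of_le_normalizer (sup_le hn le_normalizer)
  obtain ⟨o, ho, s, hs, e⟩ : ∃ o ∈ oddGen P, ∃ s ∈ (S : Subgroup G), o * s = g := by
    have h1 : (⟨(g : G), hg⟩ : ((S : Subgroup G) ⊔ oddGen P : Subgroup G)) ∈
        (oddGen P).subgroupOf ((S : Subgroup G) ⊔ oddGen P) ⊔ (S : Subgroup G).subgroupOf ((S : Subgroup G) ⊔ oddGen P) := by
      rw [← subgroupOf_sup le_sup_right le_sup_left, sup_comm (oddGen P), subgroupOf_self]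
      trivial
    obtain ⟨a, ha, b, hb, hab⟩ := mem_sup_of_normal_left.1 h1
    exact ⟨a, mem_subgroupOf.1 ha, b, mem_subgroupOf.1 hb, congrArg Subtype.val hab⟩
  have hsz : s * z = z * s := (mem_zc.1 hz).2.1 s hs
  change (g : G) * z * (g : G)⁻¹ ∈ A
  have e2 : (g : G) * z * (g : G)⁻¹ = o * z * o⁻¹ := by
    rw [← e]
    calc o * s * z * (o * s)⁻¹ = o * (s * z) * s⁻¹ * o⁻¹ := by group
      _ = o * (z * s) * s⁻¹ * o⁻¹ := by rw [hsz]
      _ = o * z * o⁻¹ := by group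
  rw [e2]
  exact hO o ho z (hZ hz)

variable {H U : Subgroup G} (h : H ≤ normalizer (U : Set G)) {hcU : U ≤ centralizer (U : Set G)}

/-- The part of `P`. -/
theorem pf (hc : IsCharacteristicTwoType G) (hne : zc (S : Subgroup G) ≠ ⊥) (hPar : IsPar (S : Subgroup G) P)
    (hn : NonLoc P (CZ (S : Subgroup G))) (hP : Stage S P) (r : Reach S P L) (hMH : ML (S : Subgroup G) L ≤ H)
    (hVU : VL (S : Subgroup G) L ≤ U) {Y Q BB KV : Subgroup (XX h)} {F L₀ C : AddSubgroup (MU hcU)} {x : XX h}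
    (B : Blk0 Y Q BB (ad hcU (VL (S : Subgroup G) L)) F L₀ C x (im h (ML (S : Subgroup G) L)) KV
      (im h (S : Subgroup G))) : PF B (im h (oddGen P)) (ad hcU (zl (S : Subgroup G) P)) := by
  have hst := r.stage hc hne hP
  have hPM : P ≤ ML (S : Subgroup G) L := (r.le hc hne hP).trans hst.toRoot.L_le
  have hPH : P ≤ H := hPM.trans hMH
  have hPV : zl (S : Subgroup G) P ≤ VL (S : Subgroup G) L := Stage.zl_le_of_le hst.toRoot (r.le hc hne hP)
  have hOV : oddGen P ≤ normalizer (zl (S : Subgroup G) P : Set G) := (oddGen_le P).trans (le_normalizer_zl _ _)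
  have hne' := ne_im h hc hne hPar hP r hMH hVU B.YM (fun m hm n hn => B.YM_conj hm hn)
    (fun y hy hyS v hv hvS => B.hX hy hyS hv fun s hs hsY => hvS s ⟨hs, hsY⟩) (by
      intro h0
      obtain ⟨s, hs, hsY, v, hv, hne⟩ := B.moves
      exact hne (h0 s ⟨hs, hsY⟩ v hv))
  refine
    { OM := im_mono h ((oddGen_le P).trans hPM)
      gen := ?_
      fix := ?_
      VO := fun o ho v hv => im_smul h hOV ho hv
      min := ?_
      ne := ?_
      cz := fun z hz hzS hzO => cz_im h hPar hn hst.toRoot hPH z hz hzS hzO }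
  · intro W hW hWS
    have h1 : zl (S : Subgroup G) P ≤ un W := by
      refine zl_le_odd hPar ?_ ?_
      · intro z hzz
        have hzV : z ∈ VL (S : Subgroup G) L := Root.zc_le_V hzz
        refine ⟨mk hcU (hVU hzV), hWS _ hzV ?_, rfl⟩
        rintro _ ⟨a, ha, rfl⟩
        exact (pr_smul_eq_iff' h).2 ((mem_zc.1 hzz).2.1 _ ha)
      · rintro o ho _ ⟨w, hw, rfl⟩
        exact ⟨_, hW _ (pr_mem_im h ho (hPH (oddGen_le P ho))) w hw, rfl⟩
    intro w hw
    exact val_mem_un.1 (h1 hw)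
  · intro z hz hzS
    refine zc_le_zl _ _ (mem_zc_of hst.toRoot hz (mem_centralizer_iff.2 fun s hs => ?_))
    exact (pr_smul_eq_iff' h).1 (hzS _ (pr_mem_im h hs (hPH (hPar.le hs))))
  · intro N _ hO hS
    rcases min_im h hc hPar hPH (hPV.trans hVU) N hO hS with h1 | h1
    · exact Or.inl h1
    · exact Or.inr fun s hs hsN v hv => h1 s ⟨hs, hsN⟩ v hv
  · by_contra hcon
    push Not at hcon
    exact hne'.1 fun s hs v hv => hcon s hs.1 hs.2 v hv

omit [Finite G] in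
/-- sums of lists of elements of `A` act as an element of the ring generated by `im h A` -/
theorem exists_ring_list {A : Subgroup G} (hA : A ≤ H) {K : Subgroup (XX h)} (hK : im h A ≤ K) (l : List G)
    (hl : ∀ x ∈ l, x ∈ A) : ∃ c ∈ ring (MU hcU) K, ∀ w : MU hcU, val (c w) = (l.map fun x => x * val w * x⁻¹).prod := by
  induction l with
  | nil => exact ⟨0, zero_mem _, fun w => rfl⟩
  | cons a l ih =>
    obtain ⟨c, hc, h1⟩ := ih fun x hx => hl x (List.mem_cons_of_mem a hx)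
    have ha : a ∈ A := hl a List.mem_cons_self
    refine ⟨op (MU hcU) (pr h ⟨a, hA ha⟩) + c, add_mem (op_mem (hK (pr_mem_im h ha (hA ha)))) hc, fun w => ?_⟩
    rw [List.map_cons, List.prod_cons, ← h1]
    rfl

/-- `GDat` for `V_P` -/
theorem gdat (hc : IsCharacteristicTwoType G) (hne : zc (S : Subgroup G) ≠ ⊥) (hPar : IsPar (S : Subgroup G) P)
    (hn : NonLoc P (CZ (S : Subgroup G))) (hP : Stage S P) (r : Reach S P L) (hMH : ML (S : Subgroup G) L ≤ H)
    (hVU : VL (S : Subgroup G) L ≤ U) {Y Q BB KV : Subgroup (XX h)} {F L₀ C : AddSubgroup (MU hcU)} {x : XX h}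
    (B : Blk0 Y Q BB (ad hcU (VL (S : Subgroup G) L)) F L₀ C x (im h (ML (S : Subgroup G) L)) KV
      (im h (S : Subgroup G))) : GDat (zl (S : Subgroup G) P) (oddGen P) (S : Subgroup G) := by
  have hst := r.stage hc hne hP
  have hPM : P ≤ ML (S : Subgroup G) L := (r.le hc hne hP).trans hst.toRoot.L_le
  have hPH : P ≤ H := hPM.trans hMH
  have hPV : zl (S : Subgroup G) P ≤ VL (S : Subgroup G) L := Stage.zl_le_of_le hst.toRoot (r.le hc hne hP)
  have hOV : oddGen P ≤ normalizer (zl (S : Subgroup G) P : Set G) := (oddGen_le P).trans (le_normalizer_zl _ _)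
  have p := pf h hc hne hPar hn hP r hMH hVU B
  have hfix : ∀ z (hz : z ∈ zl (S : Subgroup G) P), z ∈ centralizer ((S : Subgroup G) : Set G) →
      ∀ s ∈ im h (S : Subgroup G), s • (mk hcU (hVU (hPV hz))) = mk hcU (hVU (hPV hz)) := by
    rintro z hz hzS _ ⟨a, ha, rfl⟩
    exact (pr_smul_eq_iff' h).2 (mem_centralizer_iff.1 hzS _ ha)
  exact
    { comm := hP.comm
      sq := fun v hv => by rw [← sq]; exact hP.sq v hv
      two := S.isPGroup'
      SV := hPar.le.trans (le_normalizer_zl _ _)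
      XV := hOV
      SX := hPar.le.trans (le_normalizer_oddGen P)
      gen := by
        intro A hAV hOA hZA
        refine le_antisymm hAV (zl_le_odd hPar ?_ fun o ho a ha => (mem_normalizer_iff.1 (hOA ho) a).1 ha)
        intro z hz
        exact hZA ⟨zc_le_zl _ _ hz, mem_centralizer_iff.2 fun s hs => (mem_zc.1 hz).2.1 s hs⟩
      ann := by
        intro z z' hz hz1 hzS hz' hzS' l hl h0
        obtain ⟨c, hcK, h1⟩ := exists_ring_list (hcU := hcU) h ((oddGen_le P).trans hPH)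
          (p.O_le.trans B.YM_le) l hl
        have h2 := p.ann (z := mk hcU (hVU (hPV hz))) (z' := mk hcU (hVU (hPV hz'))) (hPV hz)
          (fun h3 => hz1 (congrArg val h3)) (hfix z hz hzS) (hPV hz') (hfix z' hz' hzS') hcK
          (val_inj (by rw [h1]; exact h0))
        have h3 := congrArg val h2
        rw [h1] at h3
        exact h3 }

/-- **The shape of `V_P`.** -/
theorem exists_shape (hc : IsCharacteristicTwoType G) (hne : zc (S : Subgroup G) ≠ ⊥)
    (hPar : IsPar (S : Subgroup G) P)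
    (hn : NonLoc P (CZ (S : Subgroup G))) (hP : Stage S P) (r : Reach S P L) (hMH : ML (S : Subgroup G) L ≤ H)
    (hVU : VL (S : Subgroup G) L ≤ U) {Y Q BB KV : Subgroup (XX h)} {F L₀ C : AddSubgroup (MU hcU)} {x : XX h}
    (B : Blk0 Y Q BB (ad hcU (VL (S : Subgroup G) L)) F L₀ C x (im h (ML (S : Subgroup G) L)) KV
      (im h (S : Subgroup G))) :
    ∃ (k : ℕ) (E : Fin k → Subgroup G), 0 < k ∧ iSupIndep E ∧ (⨆ j, E j) = zl (S : Subgroup G) P ∧
      (∀ j, P ≤ normalizer (E j : Set G)) ∧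
      (∀ j, ∀ A : Subgroup G, A ≤ E j → P ≤ normalizer (A : Set G) → A = ⊥ ∨ A = E j) ∧
      (∀ j, ¬ E j ≤ centralizer (oddGen P : Set G)) ∧
      ∀ i j, ∃ f : E i ≃* E j, (∀ y ∈ oddGen P, ∀ v w : E i, (w : G) = y * v * y⁻¹ → (f w : G) = y * f v * y⁻¹) ∧
        ∀ s ∈ (S : Subgroup G), ∀ v w : E i, (w : G) = s * v * s⁻¹ → (f w : G) = s * f v * s⁻¹ := by
  have hst := r.stage hc hne hP
  obtain ⟨k, E, h1, h2, h3, h4, h5, h6, h7, h8⟩ := (gdat h hc hne hPar hn hP r hMH hVU B).exists_pow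
  have hPE : ∀ j, P ≤ normalizer (E j : Set G) := by
    intro j
    have h9 : oddGen P ⊔ (S : Subgroup G) ≤ normalizer (E j : Set G) := sup_le (h5 j) (h6 j)
    rwa [oddGen_sup hPar] at h9
  refine ⟨k, E, ?_, h2, h3, hPE, ?_, ?_, h8⟩
  · rcases Nat.eq_zero_or_pos k with rfl | h0
    · exfalso
      apply hne
      rw [iSup_of_empty] at h3
      exact le_bot_iff.1 ((zc_le_zl _ _).trans h3.ge)
    · exact h0
  · intro j A hA hPA
    by_cases hA1 : A = ⊥
    · exact Or.inl hA1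
    · exact Or.inr (h7 j A hA hA1 ((oddGen_le P).trans hPA) (hPar.le.trans hPA))
  · intro j hcen
    -- a fixed point of `S` on `E j`
    have hEV : E j ≤ zl (S : Subgroup G) P := h1 j
    have hE2 : IsPGroup 2 (E j) := fun x => ⟨1, Subtype.ext (by
      have h9 := hP.sq x (hEV x.2)
      simpa using h9)⟩
    have h9 := PLocal.OffenderStep.inf_centralizer_ne_bot (E j) (S : Subgroup G) hE2 S.isPGroup' (h6 j) (h4 j)
    obtain ⟨z, hz1⟩ := Subgroup.ne_bot_iff_exists_ne_one.1 h9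
    apply hz1
    have hzE := (mem_inf.1 z.2).1
    have hzS := (mem_inf.1 z.2).2
    have hzc : (z : G) ∈ zc (S : Subgroup G) :=
      mem_zc_of hP.toRoot (Root.zl_le_V hP.toRoot (hEV hzE)) hzS
    have h10 : P ≤ centralizer ((zpowers (z : G) : Subgroup G) : Set G) := by
      rw [← oddGen_sup hPar]
      refine sup_le ?_ ?_
      · rw [le_centralizer_iff, zpowers_le]
        exact hcen hzE
      · refine (le_centralizer_zc _).trans (centralizer_le ?_)
        exact (zpowers_le.2 hzc)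
    have h11 := hn (zpowers (z : G)) (S.isPGroup'.to_le ((zpowers_le.2 hzc).trans
      (MinSimple.VModule.zc_le _))) (h10.trans (centralizer_le_normalizer _)) (by
        refine le_trans ?_ (centralizer_le_normalizer _)
        exact centralizer_le (zpowers_le.2 hzc))
    rw [zpowers_eq_bot] at h11
    exact Subtype.ext h11

end Cfsg.Agent.Omega.NO3b.Chain

end

section


/-!
# (C)(2) of GammaFF, part 4: the part of `P` (helper194, #20969; proofs as in helper255's `Chain/ShapeP.lean`)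

`P ∈ P(S)`, `P ≤ M(L)`, `⟨P, C_G(Z)⟩` not local, (NE).

* `pf_of`, `gdat_of`, `shape_of` : `PF`, `GDat`, the shape of `V_P`, without a chain from `P` to `L`;
* `gen_YM` : `V(L) = ⟨Z^{YM}⟩`, if all `P' ∈ P*(S)` normalise `V_P`;
* `two_le` : `V_P` is not irreducible.
-/

set_option autoImplicit false

namespace Cfsg.Agent.Omega.NO3b.CTwoFF

open Subgroup Cfsg
open Cfsg.Agent.ZN (o2 zc zl jj zj)
open Cfsg.Agent.ZN.ChoiceBase hiding mem_zc
open Cfsg.Agent.ZN.ChoiceSit (Syl o2_le_syl)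
open Cfsg.Agent.Omega.MinPar Cfsg.Agent.Omega.Frame Cfsg.Agent.Omega.FrameNOFF
open Cfsg.Agent.Omega.NO3b.EZero (NotFF Par cent_symm oddGen_sup_syl)
open Cfsg.Agent.Omega.NO3b.Wc
open Cfsg.Agent.Omega.NO3b.Chain
open Cfsg.Agent.MinSimple.VModule (oddGen oddGen_le le_normalizer_zl zl_le le_centralizer_zc mem_zc zc_le_zl zc_sq
  zc_comm le_normalizer_oddGen le_normalizer_o2)
open Cfsg.Agent.Omega.NO3b.Exit.Bridge
open Cfsg.Agent.Omega.NO3b.Exit.LocBar (pr_mem_im im_mono im_smul)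
open Cfsg.Agent.Omega.NO3b.Exit.BlkZ (Blk0 PF)
open Cfsg.Agent.Omega.NO3b.Exit.Descent (ring op op_mem GDat)
open Cfsg.Agent.Omega.FFBr (XX pr im mem_im)

universe u

variable {G : Type u} [Group G] [Finite G] {S : Sylow 2 G} {P L : Subgroup G}

variable {H U : Subgroup G} (h : H ≤ normalizer (U : Set G)) {hcU : U ≤ centralizer (U : Set G)}

/-- The part of `P`. -/
theorem pf_of (hc : IsCharacteristicTwoType G) (hPar : IsPar (S : Subgroup G) P)
    (hn : NonLoc P (CZ (S : Subgroup G))) (hL : Root S L) (hPM : P ≤ ML (S : Subgroup G) L)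
    (hMH : ML (S : Subgroup G) L ≤ H)
    (hVU : VL (S : Subgroup G) L ≤ U) {Y Q BB KV : Subgroup (XX h)} {F L₀ C : AddSubgroup (MU hcU)} {x : XX h}
    (B : Blk0 Y Q BB (ad hcU (VL (S : Subgroup G) L)) F L₀ C x (im h (ML (S : Subgroup G) L)) KV
      (im h (S : Subgroup G)))
    (ne : ¬ ∀ s ∈ im h (S : Subgroup G) ⊓ B.YM, ∀ v ∈ ad hcU (zl (S : Subgroup G) P), s • v = v) :
    PF B (im h (oddGen P)) (ad hcU (zl (S : Subgroup G) P)) := by
  have hPH : P ≤ H := hPM.trans hMH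
  have hPV : zl (S : Subgroup G) P ≤ VL (S : Subgroup G) L := NOThreeL.Star.zl_mono _ hPM
  have hOV : oddGen P ≤ normalizer (zl (S : Subgroup G) P : Set G) := (oddGen_le P).trans (le_normalizer_zl _ _)
  refine
    { OM := im_mono h ((oddGen_le P).trans hPM)
      gen := ?_
      fix := ?_
      VO := fun o ho v hv => im_smul h hOV ho hv
      min := ?_
      ne := ?_
      cz := fun z hz hzS hzO => cz_im h hPar hn hL hPH z hz hzS hzO }
  · intro W hW hWS
    have h1 : zl (S : Subgroup G) P ≤ un W := by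
      refine zl_le_odd hPar ?_ ?_
      · intro z hzz
        have hzV : z ∈ VL (S : Subgroup G) L := Root.zc_le_V hzz
        refine ⟨mk hcU (hVU hzV), hWS _ hzV ?_, rfl⟩
        rintro _ ⟨a, ha, rfl⟩
        exact (pr_smul_eq_iff' h).2 ((mem_zc.1 hzz).2.1 _ ha)
      · rintro o ho _ ⟨w, hw, rfl⟩
        exact ⟨_, hW _ (pr_mem_im h ho (hPH (oddGen_le P ho))) w hw, rfl⟩
    intro w hw
    exact val_mem_un.1 (h1 hw)
  · intro z hz hzS
    refine zc_le_zl _ _ (mem_zc_of hL hz (mem_centralizer_iff.2 fun s hs => ?_))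
    exact (pr_smul_eq_iff' h).1 (hzS _ (pr_mem_im h hs (hPH (hPar.le hs))))
  · intro N _ hO hS
    rcases min_im h hc hPar hPH (hPV.trans hVU) N hO hS with h1 | h1
    · exact Or.inl h1
    · exact Or.inr fun s hs hsN v hv => h1 s ⟨hs, hsN⟩ v hv
  · by_contra hcon
    push Not at hcon
    exact ne fun s hs v hv => hcon s hs.1 hs.2 v hv

/-- `V_P` is abelian. -/
theorem zl_comm (hc : IsCharacteristicTwoType G) (hP : IsLoc (S : Subgroup G) P) :
    zl (S : Subgroup G) P ≤ centralizer (zl (S : Subgroup G) P : Set G) := by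
  intro x hx
  rw [mem_centralizer_iff]
  intro y hy
  exact zc_comm _ _ (hP.zl_le S hc hy) _ (hP.zl_le S hc hx)

theorem zl_sq (hc : IsCharacteristicTwoType G) (hP : IsLoc (S : Subgroup G) P) {v : G}
    (hv : v ∈ zl (S : Subgroup G) P) : v ^ 2 = 1 := zc_sq _ v (hP.zl_le S hc hv)

/-- `GDat` for `V_P` -/
theorem gdat_of (hc : IsCharacteristicTwoType G) (hPar : IsPar (S : Subgroup G) P)
    (hPM : P ≤ ML (S : Subgroup G) L) (hMH : ML (S : Subgroup G) L ≤ H)
    (hVU : VL (S : Subgroup G) L ≤ U) {Y Q BB KV : Subgroup (XX h)} {F L₀ C : AddSubgroup (MU hcU)} {x : XX h}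
    {B : Blk0 Y Q BB (ad hcU (VL (S : Subgroup G) L)) F L₀ C x (im h (ML (S : Subgroup G) L)) KV
      (im h (S : Subgroup G))} (p : PF B (im h (oddGen P)) (ad hcU (zl (S : Subgroup G) P))) :
    GDat (zl (S : Subgroup G) P) (oddGen P) (S : Subgroup G) := by
  have hPH : P ≤ H := hPM.trans hMH
  have hPV : zl (S : Subgroup G) P ≤ VL (S : Subgroup G) L := NOThreeL.Star.zl_mono _ hPM
  have hOV : oddGen P ≤ normalizer (zl (S : Subgroup G) P : Set G) := (oddGen_le P).trans (le_normalizer_zl _ _)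
  have hfix : ∀ z (hz : z ∈ zl (S : Subgroup G) P), z ∈ centralizer ((S : Subgroup G) : Set G) →
      ∀ s ∈ im h (S : Subgroup G), s • (mk hcU (hVU (hPV hz))) = mk hcU (hVU (hPV hz)) := by
    rintro z hz hzS _ ⟨a, ha, rfl⟩
    exact (pr_smul_eq_iff' h).2 (mem_centralizer_iff.1 hzS _ ha)
  exact
    { comm := zl_comm hc hPar.isLoc
      sq := fun v hv => by rw [← sq]; exact zl_sq hc hPar.isLoc hv
      two := S.isPGroup'
      SV := hPar.le.trans (le_normalizer_zl _ _)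
      XV := hOV
      SX := hPar.le.trans (le_normalizer_oddGen P)
      gen := by
        intro A hAV hOA hZA
        refine le_antisymm hAV (zl_le_odd hPar ?_ fun o ho a ha => (mem_normalizer_iff.1 (hOA ho) a).1 ha)
        intro z hz
        exact hZA ⟨zc_le_zl _ _ hz, mem_centralizer_iff.2 fun s hs => (mem_zc.1 hz).2.1 s hs⟩
      ann := by
        intro z z' hz hz1 hzS hz' hzS' l hl h0
        obtain ⟨c, hcK, h1⟩ := exists_ring_list (hcU := hcU) h ((oddGen_le P).trans hPH)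
          (p.O_le.trans B.YM_le) l hl
        have h2 := p.ann (z := mk hcU (hVU (hPV hz))) (z' := mk hcU (hVU (hPV hz'))) (hPV hz)
          (fun h3 => hz1 (congrArg val h3)) (hfix z hz hzS) (hPV hz') (hfix z' hz' hzS') hcK
          (val_inj (by rw [h1]; exact h0))
        have h3 := congrArg val h2
        rw [h1] at h3
        exact h3 }

/-- **The shape of `V_P`.** -/
theorem shape_of (hc : IsCharacteristicTwoType G) (hne : zc (S : Subgroup G) ≠ ⊥)
    (hPar : IsPar (S : Subgroup G) P) (hn : NonLoc P (CZ (S : Subgroup G)))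
    (hPM : P ≤ ML (S : Subgroup G) L) (hMH : ML (S : Subgroup G) L ≤ H)
    (hVU : VL (S : Subgroup G) L ≤ U) {Y Q BB KV : Subgroup (XX h)} {F L₀ C : AddSubgroup (MU hcU)} {x : XX h}
    {B : Blk0 Y Q BB (ad hcU (VL (S : Subgroup G) L)) F L₀ C x (im h (ML (S : Subgroup G) L)) KV
      (im h (S : Subgroup G))} (p : PF B (im h (oddGen P)) (ad hcU (zl (S : Subgroup G) P))) :
    ∃ (k : ℕ) (E : Fin k → Subgroup G), 0 < k ∧ iSupIndep E ∧ (⨆ j, E j) = zl (S : Subgroup G) P ∧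
      (∀ j, P ≤ normalizer (E j : Set G)) ∧
      (∀ j, ∀ A : Subgroup G, A ≤ E j → P ≤ normalizer (A : Set G) → A = ⊥ ∨ A = E j) ∧
      (∀ j, ¬ E j ≤ centralizer (oddGen P : Set G)) ∧
      ∀ i j, ∃ f : E i ≃* E j, (∀ y ∈ oddGen P, ∀ v w : E i, (w : G) = y * v * y⁻¹ → (f w : G) = y * f v * y⁻¹) ∧
        ∀ s ∈ (S : Subgroup G), ∀ v w : E i, (w : G) = s * v * s⁻¹ → (f w : G) = s * f v * s⁻¹ := by
  obtain ⟨k, E, h1, h2, h3, h4, h5, h6, h7, h8⟩ := (gdat_of h hc hPar hPM hMH hVU p).exists_pow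
  have hPE : ∀ j, P ≤ normalizer (E j : Set G) := by
    intro j
    have h9 : oddGen P ⊔ (S : Subgroup G) ≤ normalizer (E j : Set G) := sup_le (h5 j) (h6 j)
    rwa [oddGen_sup hPar] at h9
  refine ⟨k, E, ?_, h2, h3, hPE, ?_, ?_, h8⟩
  · rcases Nat.eq_zero_or_pos k with rfl | h0
    · exfalso
      apply hne
      rw [iSup_of_empty] at h3
      exact le_bot_iff.1 ((zc_le_zl _ _).trans h3.ge)
    · exact h0
  · intro j A hA hPA
    by_cases hA1 : A = ⊥
    · exact Or.inl hA1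
    · exact Or.inr (h7 j A hA hA1 ((oddGen_le P).trans hPA) (hPar.le.trans hPA))
  · intro j hcen
    -- a fixed point of `S` on `E j`
    have hEV : E j ≤ zl (S : Subgroup G) P := h1 j
    have hE2 : IsPGroup 2 (E j) := fun x => ⟨1, Subtype.ext (by
      have h9 := zl_sq hc hPar.isLoc (hEV x.2)
      simpa using h9)⟩
    have h9 := PLocal.OffenderStep.inf_centralizer_ne_bot (E j) (S : Subgroup G) hE2 S.isPGroup' (h6 j) (h4 j)
    obtain ⟨z, hz1⟩ := Subgroup.ne_bot_iff_exists_ne_one.1 h9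
    apply hz1
    have hzE := (mem_inf.1 z.2).1
    have hzS := (mem_inf.1 z.2).2
    have hzs : (z : G) ∈ (S : Subgroup G) := MinPar.le_of_le_normalizer S hE2 (h6 j) hzE
    have hzc : (z : G) ∈ zc (S : Subgroup G) :=
      mem_zc.2 ⟨hzs, fun s hs => mem_centralizer_iff.1 hzS s hs, zl_sq hc hPar.isLoc (hEV hzE)⟩
    have h10 : P ≤ centralizer ((zpowers (z : G) : Subgroup G) : Set G) := by
      rw [← oddGen_sup hPar]
      refine sup_le ?_ ?_
      · rw [le_centralizer_iff, zpowers_le]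
        exact hcen hzE
      · refine (le_centralizer_zc _).trans (centralizer_le ?_)
        exact (zpowers_le.2 hzc)
    have h11 := hn (zpowers (z : G)) (S.isPGroup'.to_le ((zpowers_le.2 hzc).trans
      (MinSimple.VModule.zc_le _))) (h10.trans (centralizer_le_normalizer _)) (by
        refine le_trans ?_ (centralizer_le_normalizer _)
        exact centralizer_le (zpowers_le.2 hzc))
    rw [zpowers_eq_bot] at h11
    exact Subtype.ext h11

end Cfsg.Agent.Omega.NO3b.CTwoFF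

end

section


/-!
# NotFF (c), local exit: the shape of `V_P`, `k ≥ 2` (helper255, bb 20845, 21365)

* `ff_of_irr` : if `V_P` is irreducible under `P`, then `V_P` is FF;
* **`exists_shape_two`** : `V_P` is the direct product of `k ≥ 2` subgroups `E_j`, irreducible under `P`, pairwise
  isomorphic as `O²(P)`- and as `S`-groups, not centralised by `O²(P)`.
-/

set_option autoImplicit false

namespace Cfsg.Agent.Omega.NO3b.Chain

open Subgroup Cfsg
open Cfsg.Agent.ZN (o2 zc zl jj zj)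
open Cfsg.Agent.ZN.ChoiceBase hiding mem_zc
open Cfsg.Agent.ZN.ChoiceSit (Syl o2_le_syl)
open Cfsg.Agent.Omega.MinPar Cfsg.Agent.Omega.Frame Cfsg.Agent.Omega.FrameNOFF
open Cfsg.Agent.Omega.NO3b.EZero (NotFF Par cent_symm oddGen_sup_syl)
open Cfsg.Agent.Omega.NO3b.Wc
open Cfsg.Agent.MinSimple.VModule (oddGen oddGen_le le_normalizer_zl zl_le le_centralizer_zc mem_zc zc_le_zl zc_sq
  zc_comm le_normalizer_oddGen)
open Cfsg.Agent.Omega.NO3b.Exit.Bridge
open Cfsg.Agent.Omega.NO3b.Exit.LocBar (pr_mem_im im_mono im_smul im_conj)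
open Cfsg.Agent.Omega.NO3b.Exit.BlkZ (Blk0 PF)
open Cfsg.Agent.Omega.NO3b.Exit.Descent (ring op op_mem GDat orb mem_orb self_mem smul_mem_orb smul_mem_orb' orb_le)
open Cfsg.Agent.Omega.FFBr (XX pr im mem_im)

universe u v

variable {G : Type u} [Group G]

theorem relIndex_le_card {C A : Subgroup G} {X : Type v} [Finite X] (g : A → X)
    (hg : ∀ a b : A, g a = g b → (a : G)⁻¹ * b ∈ C) : C.relIndex A ≤ Nat.card X := by
  refine Nat.card_le_card_of_injective (fun q : A ⧸ C.subgroupOf A => g q.out) fun q q' h => ?_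
  have h1 : ((q.out : A) : A ⧸ C.subgroupOf A) = ((q'.out : A) : A ⧸ C.subgroupOf A) :=
    QuotientGroup.eq.2 (mem_subgroupOf.2 (hg _ _ h))
  rwa [QuotientGroup.out_eq', QuotientGroup.out_eq'] at h1

theorem card_le_relIndex [Finite G] {C A : Subgroup G} {X : Type v} (g : A → X) (hs : ∀ x, ∃ a, g a = x)
    (hg : ∀ a b : A, (a : G)⁻¹ * b ∈ C → g a = g b) : Nat.card X ≤ C.relIndex A := by
  refine Nat.card_le_card_of_surjective (fun q : A ⧸ C.subgroupOf A => g q.out) fun x => ?_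
  obtain ⟨a, rfl⟩ := hs x
  refine ⟨(a : A ⧸ C.subgroupOf A), hg _ _ ?_⟩
  have h1 : ((((a : A ⧸ C.subgroupOf A)).out : A) : A ⧸ C.subgroupOf A) = (a : A ⧸ C.subgroupOf A) :=
    QuotientGroup.out_eq' _
  exact mem_subgroupOf.1 (QuotientGroup.eq.1 h1)

variable [Finite G] {S : Sylow 2 G} {P L : Subgroup G}
variable {H U : Subgroup G} (h : H ≤ normalizer (U : Set G)) {hcU : U ≤ centralizer (U : Set G)}

/-- **If `V_P` is irreducible under `P`, then `V_P` is FF.** -/
theorem ff_of_irr (hc : IsCharacteristicTwoType G) (hne : zc (S : Subgroup G) ≠ ⊥) (hPar : IsPar (S : Subgroup G) P)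
    (hn : NonLoc P (CZ (S : Subgroup G))) (hP : Stage S P) (r : Reach S P L) (hMH : ML (S : Subgroup G) L ≤ H)
    (hVU : VL (S : Subgroup G) L ≤ U) {Y Q BB KV : Subgroup (XX h)} {F L₀ C : AddSubgroup (MU hcU)} {x : XX h}
    (B : Blk0 Y Q BB (ad hcU (VL (S : Subgroup G) L)) F L₀ C x (im h (ML (S : Subgroup G) L)) KV
      (im h (S : Subgroup G)))
    (irr : ∀ A : Subgroup G, A ≤ zl (S : Subgroup G) P → P ≤ normalizer (A : Set G) →
      A = ⊥ ∨ A = zl (S : Subgroup G) P) : False := by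
  have hst := r.stage hc hne hP
  have hPM : P ≤ ML (S : Subgroup G) L := (r.le hc hne hP).trans hst.toRoot.L_le
  have hPH : P ≤ H := hPM.trans hMH
  have hSH : (S : Subgroup G) ≤ H := hPar.le.trans hPH
  have hPV : zl (S : Subgroup G) P ≤ VL (S : Subgroup G) L := Stage.zl_le_of_le hst.toRoot (r.le hc hne hP)
  have hOV : oddGen P ≤ normalizer (zl (S : Subgroup G) P : Set G) := (oddGen_le P).trans (le_normalizer_zl _ _)
  have p := pf h hc hne hPar hn hP r hMH hVU B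
  obtain ⟨z, hz, hz1⟩ := (Subgroup.bot_or_exists_ne_one (zc (S : Subgroup G))).resolve_left hne
  have hzP : z ∈ zl (S : Subgroup G) P := zc_le_zl _ _ hz
  let w : MU hcU := mk hcU (hVU (hPV hzP))
  have hw0 : w ≠ 0 := fun h0 => hz1 (congrArg val h0)
  have hwS : ∀ s ∈ im h (S : Subgroup G), s • w = w := by
    rintro _ ⟨a, ha, rfl⟩
    exact (pr_smul_eq_iff' h).2 ((mem_zc.1 hz).2.1 _ ha)
  have hgen : ∀ v ∈ ad hcU (zl (S : Subgroup G) P), ∃ c ∈ ring (MU hcU) (im h (oddGen P)), c w = v := by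
    have hinv : ∀ g (hg : g ∈ P), ∀ v ∈ orb (im h (oddGen P)) w,
        pr h ⟨g, hPH hg⟩ • v ∈ orb (im h (oddGen P)) w := by
      intro g hg
      have hO : ∀ o (ho : o ∈ oddGen P), ∀ v ∈ orb (im h (oddGen P)) w,
          pr h ⟨o, hPH (oddGen_le P ho)⟩ • v ∈ orb (im h (oddGen P)) w := fun o ho v hv =>
        smul_mem_orb (pr_mem_im h ho _) hv
      have hS : ∀ s (hs : s ∈ (S : Subgroup G)), ∀ v ∈ orb (im h (oddGen P)) w,
          pr h ⟨s, hSH hs⟩ • v ∈ orb (im h (oddGen P)) w := fun s hs v hv =>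
        smul_mem_orb' (fun y hy => im_conj h (hPar.le.trans (le_normalizer_oddGen P)) (pr_mem_im h hs _) hy)
          (hwS _ (pr_mem_im h hs _)) hv
      let R : Subgroup G :=
        { carrier := {g | ∃ hg : g ∈ H, (∀ v ∈ orb (im h (oddGen P)) w, pr h ⟨g, hg⟩ • v ∈ orb (im h (oddGen P)) w) ∧
            ∀ v ∈ orb (im h (oddGen P)) w, (pr h ⟨g, hg⟩)⁻¹ • v ∈ orb (im h (oddGen P)) w}
          one_mem' := by
            refine ⟨one_mem _, fun v hv => ?_, fun v hv => ?_⟩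
            · have e : (⟨1, one_mem _⟩ : H) = 1 := rfl
              rw [e, map_one, one_smul]; exact hv
            · have e : (⟨1, one_mem _⟩ : H) = 1 := rfl
              rw [e, map_one, inv_one, one_smul]; exact hv
          mul_mem' := by
            rintro a b ⟨ha, ha1, ha2⟩ ⟨hb, hb1, hb2⟩
            have e : (⟨a * b, mul_mem ha hb⟩ : H) = ⟨a, ha⟩ * ⟨b, hb⟩ := rfl
            refine ⟨mul_mem ha hb, fun v hv => ?_, fun v hv => ?_⟩
            · rw [e, map_mul, mul_smul]; exact ha1 _ (hb1 v hv)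
            · rw [e, map_mul, mul_inv_rev, mul_smul]; exact hb2 _ (ha2 v hv)
          inv_mem' := by
            rintro a ⟨ha, ha1, ha2⟩
            have e : (⟨a⁻¹, inv_mem ha⟩ : H) = (⟨a, ha⟩ : H)⁻¹ := rfl
            refine ⟨inv_mem ha, fun v hv => ?_, fun v hv => ?_⟩
            · rw [e, map_inv]; exact ha2 v hv
            · rw [e, map_inv, inv_inv]; exact ha1 v hv }
      have hR : P ≤ R := by
        rw [← oddGen_sup hPar]
        refine sup_le (fun o ho => ⟨hPH (oddGen_le P ho), hO o ho, fun v hv => ?_⟩)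
          fun s hs => ⟨hSH hs, hS s hs, fun v hv => ?_⟩
        · rw [← map_inv]
          exact hO o⁻¹ (inv_mem ho) v hv
        · rw [← map_inv]
          exact hS s⁻¹ (inv_mem hs) v hv
      obtain ⟨_, h1, -⟩ := hR hg
      exact h1
    have hle : un (orb (im h (oddGen P)) w) ≤ zl (S : Subgroup G) P := by
      rintro _ ⟨v, hv, rfl⟩
      have h1 : orb (im h (oddGen P)) w ≤ ad hcU (zl (S : Subgroup G) P) :=
        orb_le (fun y hy v hv => im_smul h hOV hy hv) hzP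
      exact h1 hv
    have h2 : P ≤ normalizer (un (orb (im h (oddGen P)) w) : Set G) := by
      have key : ∀ g ∈ P, ∀ y ∈ un (orb (im h (oddGen P)) w), g * y * g⁻¹ ∈ un (orb (im h (oddGen P)) w) := by
        rintro g hg _ ⟨v, hv, rfl⟩
        exact ⟨_, hinv g hg v hv, rfl⟩
      intro g hg
      rw [mem_normalizer_iff]
      intro y
      refine ⟨key g hg y, fun h3 => ?_⟩
      have h4 := key g⁻¹ (inv_mem hg) _ h3
      have e : g⁻¹ * (g * y * g⁻¹) * g⁻¹⁻¹ = y := by group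
      rwa [e] at h4
    have h3 := (irr _ hle h2).resolve_left (by
      intro h0
      have h4 : z ∈ un (orb (im h (oddGen P)) w) := ⟨w, self_mem _ w, rfl⟩
      rw [h0] at h4
      exact hz1 (mem_bot.1 h4))
    intro v hv
    have h4 : val v ∈ un (orb (im h (oddGen P)) w) := by rw [h3]; exact hv
    exact mem_orb.1 (val_mem_un.1 h4)
  obtain ⟨Θ, X1, X2, hf1, hf2, γ, δ, hcard, hΘS, ⟨θ, hθ, v, hv, hne1⟩, hsq, hcomm, hγ, hδs, hδ⟩ :=
    p.exists_ff (z := w) (hPV hzP) hw0 hwS hgen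
  -- the group
  let A : Subgroup G := (S : Subgroup G) ⊓ pre h Θ
  have hAS : A ≤ (S : Subgroup G) := inf_le_left
  have hAH : ∀ a ∈ A, ∃ ha : a ∈ H, pr h ⟨a, ha⟩ ∈ Θ := fun a ha => (mem_pre h).1 ha.2
  have hmk : ∀ y ∈ zl (S : Subgroup G) P, ∀ hy : y ∈ U, mk hcU hy ∈ ad hcU (zl (S : Subgroup G) P) := fun y hy _ => hy
  have hexA : ∀ θ ∈ Θ, ∃ a ∈ A, ∃ ha : a ∈ H, pr h ⟨a, ha⟩ = θ := by
    intro θ hθ
    obtain ⟨a, ha, e⟩ := hΘS hθ
    exact ⟨a, ⟨ha, (mem_pre h).2 ⟨a.2, by rw [← e] at hθ; exact hθ⟩⟩, a.2, e⟩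
  have hcen : ∀ a (ha : a ∈ H), (∀ v ∈ ad hcU (zl (S : Subgroup G) P), pr h ⟨a, ha⟩ • v = v) →
      a ∈ centralizer (zl (S : Subgroup G) P : Set G) := by
    intro a ha h1
    rw [mem_centralizer_iff]
    intro y hy
    exact ((pr_smul_eq_iff' h).1 (h1 (mk hcU (hVU (hPV hy))) hy)).symm
  have hnff := hP.nff A (S.isPGroup'.to_le hAS) ((hAS.trans hPar.le).trans (le_normalizer_zl _ _))
    (fun a ha => by
      obtain ⟨haH, h1⟩ := hAH a ha
      rw [pow_two]
      refine hcen (a * a) (mul_mem haH haH) fun v hv => ?_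
      have e : (⟨a * a, mul_mem haH haH⟩ : H) = ⟨a, haH⟩ * ⟨a, haH⟩ := rfl
      rw [e, map_mul]
      exact hsq _ h1 v hv)
    (fun a ha b hb => by
      obtain ⟨haH, h1⟩ := hAH a ha
      obtain ⟨hbH, h2⟩ := hAH b hb
      refine hcen (a * b * a⁻¹ * b⁻¹) (mul_mem (mul_mem (mul_mem haH hbH) (inv_mem haH)) (inv_mem hbH)) fun v hv => ?_
      have e : (⟨a * b * a⁻¹ * b⁻¹, mul_mem (mul_mem (mul_mem haH hbH) (inv_mem haH)) (inv_mem hbH)⟩ : H) =
        ⟨a, haH⟩ * ⟨b, hbH⟩ * ⟨a, haH⟩⁻¹ * ⟨b, hbH⟩⁻¹ := rfl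
      rw [e, map_mul, map_mul, map_mul, map_inv, map_inv]
      exact hcomm _ h1 _ h2 v hv)
    (by
      intro h1
      apply hne1
      obtain ⟨a, ha, haH, rfl⟩ := hexA θ hθ
      exact (pr_smul_eq_iff' h).2 (mem_centralizer_iff.1 (h1 ha) _ hv).symm)
  have h1 : (centralizer (A : Set G)).relIndex (zl (S : Subgroup G) P) ≤ Nat.card X1 := by
    refine relIndex_le_card (fun y : zl (S : Subgroup G) P => γ (mk hcU (hVU (hPV y.2)))) fun y y' e => ?_
    rw [mem_centralizer_iff]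
    intro a ha
    obtain ⟨haH, h3⟩ := hAH a ha
    have h4 := hγ (mk hcU (hVU (hPV y.2))) y.2 (mk hcU (hVU (hPV y'.2))) y'.2 e _ h3
    have h5 := (pr_smul_eq_iff' h).1 h4
    rw [val_sub, val_mk, val_mk] at h5
    -- `a (y y'⁻¹) = (y y'⁻¹) a`; `y⁻¹ y' = (y y'⁻¹)⁻¹` as `V_P` is abelian
    have h6 : (y : G)⁻¹ * y' = ((y : G) * (y' : G)⁻¹)⁻¹ := by
      rw [mul_inv_rev, inv_inv]
      have h7 := mem_centralizer_iff.1 (hP.comm (inv_mem y.2)) _ y'.2
      exact h7.symm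
    rw [h6]
    have h8 : a ∈ centralizer ({(y : G) * (y' : G)⁻¹} : Set G) := mem_centralizer_singleton_iff.2 h5
    have h9 : (((y : G) * (y' : G)⁻¹)⁻¹) ∈ centralizer ({a} : Set G) :=
      inv_mem (mem_centralizer_singleton_iff.2 (mem_centralizer_singleton_iff.1 h8).symm)
    exact (mem_centralizer_singleton_iff.1 h9).symm
  have h2 : Nat.card X2 ≤ (centralizer (zl (S : Subgroup G) P : Set G)).relIndex A := by
    refine card_le_relIndex (fun a : A => δ (pr h ⟨a, (hAH a a.2).1⟩)) (fun x => ?_) fun a b hab => ?_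
    · obtain ⟨θ', hθ', rfl⟩ := hδs x
      obtain ⟨a, ha, haH, e⟩ := hexA θ' hθ'
      exact ⟨⟨a, ha⟩, by change δ (pr h ⟨a, _⟩) = _; rw [e]⟩
    · obtain ⟨haH, h3⟩ := hAH a a.2
      obtain ⟨hbH, h4⟩ := hAH b b.2
      refine hδ _ h3 _ h4 fun v hv => ?_
      have h5 : (pr h ⟨(a : G)⁻¹ * b, mul_mem (inv_mem haH) hbH⟩) • v = v :=
        (pr_smul_eq_iff' h).2 (mem_centralizer_iff.1 hab _ hv).symm
      have e : (⟨(a : G)⁻¹ * b, mul_mem (inv_mem haH) hbH⟩ : H) = (⟨a, haH⟩ : H)⁻¹ * ⟨b, hbH⟩ := rfl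
      rw [e, map_mul, map_inv, mul_smul, inv_smul_eq_iff] at h5
      exact h5.symm
  omega

/-- **The shape of `V_P`.** -/
theorem exists_shape_two (hc : IsCharacteristicTwoType G) (hne : zc (S : Subgroup G) ≠ ⊥)
    (hPar : IsPar (S : Subgroup G) P)
    (hn : NonLoc P (CZ (S : Subgroup G))) (hP : Stage S P) (r : Reach S P L) (hMH : ML (S : Subgroup G) L ≤ H)
    (hVU : VL (S : Subgroup G) L ≤ U) {Y Q BB KV : Subgroup (XX h)} {F L₀ C : AddSubgroup (MU hcU)} {x : XX h}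
    (B : Blk0 Y Q BB (ad hcU (VL (S : Subgroup G) L)) F L₀ C x (im h (ML (S : Subgroup G) L)) KV
      (im h (S : Subgroup G))) :
    ∃ (k : ℕ) (E : Fin k → Subgroup G), 2 ≤ k ∧ iSupIndep E ∧ (⨆ j, E j) = zl (S : Subgroup G) P ∧
      (∀ j, P ≤ normalizer (E j : Set G)) ∧
      (∀ j, ∀ A : Subgroup G, A ≤ E j → P ≤ normalizer (A : Set G) → A = ⊥ ∨ A = E j) ∧
      (∀ j, ¬ E j ≤ centralizer (oddGen P : Set G)) ∧
      ∀ i j, ∃ f : E i ≃* E j, (∀ y ∈ oddGen P, ∀ v w : E i, (w : G) = y * v * y⁻¹ → (f w : G) = y * f v * y⁻¹) ∧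
        ∀ s ∈ (S : Subgroup G), ∀ v w : E i, (w : G) = s * v * s⁻¹ → (f w : G) = s * f v * s⁻¹ := by
  obtain ⟨k, E, h0, h1, h2, h3, h4, h5, h6⟩ := exists_shape h hc hne hPar hn hP r hMH hVU B
  refine ⟨k, E, ?_, h1, h2, h3, h4, h5, h6⟩
  by_contra hk
  have hk1 : k = 1 := by omega
  subst hk1
  have e : E 0 = zl (S : Subgroup G) P := by
    rw [← h2]
    exact (iSup_unique (f := E)).symm
  refine ff_of_irr h hc hne hPar hn hP r hMH hVU B fun A hA hPA => ?_
  rw [← e] at hA ⊢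
  exact h4 0 A hA hPA

end Cfsg.Agent.Omega.NO3b.Chain

end
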