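import Cfsg.Agent.Mrg.Omega.NO3b.Chain.Frame
import Cfsg.Agent.Mrg.Omega.NO3b.Closed.CountB
import Cfsg.Agent.Mrg.Omega.NO3b.Closed.InstPar


/-!
# NotFF (c), local exit: `(P, V_P)` is a pair for #19499

`P ∈ P*(S)`, `⟨P, C_G(Z)⟩` nonlocal, `V_P = ⟨Z^P⟩ ≤ O₂(C_G(Z))` not FF.

* `Stage.geo` : `ClosedPt.Geo S Z V_P P`;
* `SH S P` : `V_P = ⨁ E_j`, `k ≥ 2`, `E_j` irreducible under `P`, all isomorphic as `S`-modules (helper255,
  LEMMA DESCENT);
* `good_of_sh` : good sets for all closed points; `exists_out` : a pair (closed point, exact end).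
-/

set_option autoImplicit false

namespace Cfsg.Agent.Omega.NO3b.Chain

open Subgroup Cfsg
open Cfsg.Agent.ZN (o2 zc zl jj zj)
open Cfsg.Agent.ZN.ChoiceBase hiding mem_zc
open Cfsg.Agent.ZN.ChoiceSit (Syl o2_le_syl)
open Cfsg.Agent.MinSimple.EmptyTI (syl_of_le)
open Cfsg.Agent.Omega.MinPar Cfsg.Agent.Omega.Frame Cfsg.Agent.Omega.FrameNOFF
open Cfsg.Agent.Omega.NO3b.EZero (NotFF Par cl cl_le le_cl cj_le_cl cent_symm oddGen_sup_syl)
open Cfsg.Agent.Omega.NO3b.Wc
open Cfsg.Agent.Omega.NO3b.ClosedPt (Flag Clo Geo GoodAt End Out)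
open Cfsg.Agent.Omega.ML.Final (MLK)
open Cfsg.Agent.MinSimple.VModule (oddGen oddGen_le zc_le_zl le_normalizer_zl le_centralizer_zc le_normalizer_o2
  mem_zc zl_le)

universe u

variable {G : Type u} [Group G]

/-- **(SH)** `V_P = E₁^k`, `k ≥ 2`, as an `S`-module, the summands irreducible under `P` and not centralised by
`O²(P)` (the form of helper255's `exists_shape`). -/
def SH (S P : Subgroup G) : Prop :=
  ∃ (k : ℕ) (E : Fin k → Subgroup G), 2 ≤ k ∧ iSupIndep E ∧ (⨆ j, E j) = zl S P ∧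
    (∀ j, P ≤ normalizer (E j : Set G)) ∧
    (∀ j, ∀ A : Subgroup G, A ≤ E j → P ≤ normalizer (A : Set G) → A = ⊥ ∨ A = E j) ∧
    (∀ j, ¬ E j ≤ centralizer (oddGen P : Set G)) ∧
    ∀ i j, ∃ f : E i ≃* E j, (∀ y ∈ oddGen P, ∀ v w : E i, (w : G) = y * v * y⁻¹ → (f w : G) = y * f v * y⁻¹) ∧
      ∀ s ∈ S, ∀ v w : E i, (w : G) = s * v * s⁻¹ → (f w : G) = s * f v * s⁻¹

variable [Finite G] {S : Sylow 2 G} {P : Subgroup G}

section

variable (h : Stage S P) (hc : IsCharacteristicTwoType G) (hne : zc (S : Subgroup G) ≠ ⊥)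
include h hc hne

/-- conjugates of `V_P` which meet commute -/
theorem Stage.hz (a b : G) (hab : cj a (zl (S : Subgroup G) P) ⊓ cj b (zl (S : Subgroup G) P) ≠ ⊥) :
    cj a (zl (S : Subgroup G) P) ≤ centralizer ((cj b (zl (S : Subgroup G) P) : Subgroup G) : Set G) := by
  have l := h.lines hc hne
  have hV := h.zl_le_V
  have h1 : cj a (VL (S : Subgroup G) P) ⊓ cj b (VL (S : Subgroup G) P) ≠ ⊥ := fun h0 => hab (by
    rw [eq_bot_iff, ← h0]
    exact inf_le_inf (cj_mono _ hV) (cj_mono _ hV))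
  exact ((cj_mono _ hV).trans (l.comm_of_inter (l.char2 hc) h1)).trans (centralizer_le (cj_mono _ hV))

omit h hc hne in
theorem Stage.le_S (h : Stage S P) : zl (S : Subgroup G) P ≤ (S : Subgroup G) :=
  h.low.trans (o2_le_syl (syl_of_le (le_centralizer_zc _)))

/-- `⟨V_P^{C_G(Z)}⟩` is abelian -/
theorem Stage.W_comm : cl (zl (S : Subgroup G) P) (centralizer (zc (S : Subgroup G) : Set G)) ≤
    centralizer (cl (zl (S : Subgroup G) P) (centralizer (zc (S : Subgroup G) : Set G)) : Set G) := by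
  have key : ∀ c ∈ centralizer (zc (S : Subgroup G) : Set G), zc (S : Subgroup G) ≤ cj c (zl (S : Subgroup G) P) := by
    intro c hcc z hz
    rw [mem_cj]
    have h1 := mem_centralizer_iff.1 hcc z hz
    have e : c⁻¹ * z * c = z := by rw [mul_assoc, h1]; group
    rw [e]
    exact zc_le_zl _ _ hz
  refine cl_le fun a ha => cent_symm (cl_le fun b hb => ?_)
  refine h.hz hc hne b a fun h0 => hne ?_
  rw [eq_bot_iff, ← h0]
  exact le_inf (key b hb) (key a ha)

theorem Stage.W_sq : ∀ a ∈ cl (zl (S : Subgroup G) P) (centralizer (zc (S : Subgroup G) : Set G)), a ^ 2 = 1 := by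
  have hcomm : ∀ a ∈ cl (zl (S : Subgroup G) P) (centralizer (zc (S : Subgroup G) : Set G)),
      ∀ b ∈ cl (zl (S : Subgroup G) P) (centralizer (zc (S : Subgroup G) : Set G)), a * b = b * a :=
    fun a ha b hb => mem_centralizer_iff.1 (h.W_comm hc hne hb) a ha
  let K : Subgroup G :=
    { carrier := {a | a ∈ cl (zl (S : Subgroup G) P) (centralizer (zc (S : Subgroup G) : Set G)) ∧ a ^ 2 = 1}
      one_mem' := ⟨one_mem _, one_pow _⟩
      mul_mem' := fun {a b} ha hb => ⟨mul_mem ha.1 hb.1, by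
        rw [(show Commute a b from hcomm a ha.1 b hb.1).mul_pow, ha.2, hb.2, one_mul]⟩
      inv_mem' := fun {a} ha => ⟨inv_mem ha.1, by rw [inv_pow, ha.2, inv_one]⟩ }
  have h1 : cl (zl (S : Subgroup G) P) (centralizer (zc (S : Subgroup G) : Set G)) ≤ K := cl_le fun x hx y hy =>
    ⟨cj_le_cl hx hy, by
      have h2 := h.sq _ (mem_cj.1 hy)
      have e : y = x * (x⁻¹ * y * x) * x⁻¹ := by group
      rw [e, conj_pow, h2, mul_one, mul_inv_cancel]⟩
  exact fun a ha => (h1 ha).2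

theorem Stage.flag : Flag (S : Subgroup G) (zc (S : Subgroup G)) (zl (S : Subgroup G) P) :=
  Flag.of_fix (syl_of_le (le_centralizer_zc _)) (zc_le_zl _ _) (h.le.trans (le_normalizer_zl _ _)) h.low
    (h.W_comm hc hne) (fun v hv => by rw [← pow_two]; exact h.sq v hv) (by
    intro w hw hS _
    have hWS : cl (zl (S : Subgroup G) P) (centralizer (zc (S : Subgroup G) : Set G)) ≤
        o2 (centralizer (zc (S : Subgroup G) : Set G)) := cl_le fun x hx => by
      have h1 := cj_mono x h.low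
      rwa [cj_eq_of_mem_normalizer (le_normalizer_o2 _ hx)] at h1
    exact mem_zc.2 ⟨(hWS.trans (o2_le_syl (syl_of_le (le_centralizer_zc _)))) hw, fun s hs => hS s hs,
      h.W_sq hc hne w hw⟩)

/-- **`(P, V_P)` is a pair for #19499.** -/
theorem Stage.geo (hn : NonLoc P (CZ (S : Subgroup G))) :
    Geo (S : Subgroup G) (zc (S : Subgroup G)) (zl (S : Subgroup G) P) P where
  flag := h.flag hc hne
  ne := hne
  norm := le_normalizer_zl _ _
  hz := h.hz hc hne
  nonloc := hn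

omit hne in
/-- good sets for all closed points of `V_P` -/
theorem Stage.good_of_sh (hPar : IsPar (S : Subgroup G) P)
    (sh : SH (S : Subgroup G) P) (D : Subgroup G) (hD : Clo (S : Subgroup G) (zc (S : Subgroup G))
      (zl (S : Subgroup G) P) D) (hne : D ≠ zl (S : Subgroup G) P) :
    ∃ lam T₀, GoodAt ((S : Subgroup G) ⊓ centralizer (D : Set G)) (zl (S : Subgroup G) P) D lam T₀ := by
  obtain ⟨k, U, hk, hind, hsup, hP, irr, hO, iso⟩ := sh
  let i₀ : Fin k := ⟨0, by omega⟩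
  choose f hf using fun j => iso i₀ j
  refine ClosedPow.exists_good_of_par (ι := Fin k) (S := (S : Subgroup G)) (P := P) FFBr.aStmt i₀
    (by rw [Nat.card_eq_fintype_card, Fintype.card_fin]; exact hk) (syl_of_le hPar.le) hPar.toIsMinPar
    (fun j => hPar.le.trans (hP j)) h.comm (fun v hv => by rw [← pow_two]; exact h.sq v hv) hind hsup f
    (fun j s hs u u' he => (hf j).2 s hs u u' he) (h.le_S.trans hPar.le) (hP i₀) (irr i₀) (hO i₀) ?_ hne ?_
  · exact MinSimple.VModule.o2_le_centralizer_zl hPar.le S.isPGroup'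
      (ZN.ChoiceSit.syl_not_dvd (syl_of_le hPar.le)) (hPar.isLoc.char2 S hc)
  · intro w
    refine ⟨fun hw => ⟨hD.DV hw, fun t ht => mem_centralizer_iff.1 ht.2 w hw |>.symm⟩, fun hw => hD.clo w hw.1 hw.2⟩

/-- **#19499 at one end.** -/
theorem Stage.exists_out (hPar : IsPar (S : Subgroup G) P) (hn : NonLoc P (CZ (S : Subgroup G)))
    (sh : SH (S : Subgroup G) P) (ml : MLK.{u, u}) (hK : IsKGroup (centralizer (zc (S : Subgroup G) : Set G))) :
    ∃ (D B : Subgroup G) (e : End (S : Subgroup G) (zc (S : Subgroup G)) (zl (S : Subgroup G) P) D B)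
      (lam T₀ : Subgroup G), Out e lam T₀ :=
  (h.geo hc hne hn).exists_out ml hK (h.good_of_sh hc hPar sh)

end

end Cfsg.Agent.Omega.NO3b.Chain
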