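import Cfsg.Agent.Mrg.Omega.NO3b.Union.Asm

section


/-!
# NotFF (c), local exit: the chain frame (helper235, #18967 (2))

`S` a Sylow 2-subgroup, `W(L) = WH S L`, `M(L) = ML S L`, `V(L) = VL S L` (`Wc/Frame.lean`).

* `Stage S L` : `Root S L` and `V_L ≤ O₂(C_G(Z))`, `Z = Ω₁(Z(S))`; `Stage.lines`;
* `Step S L F T X` : a panel `(F, T, X)` of `V(L)`, `Z ≤ F`, such that `L' = ⟨M(L), X⟩` is local, `V_{L'}` is not FF
  and lies in `O₂(C_G(Z))`; `nx S L X` is `L'`; `Step.next` : `Stage S L'`; `Step.lt` : `V(L) < V(L')`;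
* `Reach S P L` : `L` is reached from `P`; `Reach.stage`, `Reach.le`, `Reach.ML_le`;
* `exists_last` : some `L` reached from `P` has no step;
* `LocChain K` : the local exit for the last member of the chain; `notFF_of_locChain`.
-/

set_option autoImplicit false

namespace Cfsg.Agent.Omega.NO3b.Chain

open Subgroup Cfsg
open Cfsg.Agent.ZN (o2 zc zl jj zj)
open Cfsg.Agent.ZN.ChoiceBase hiding mem_zc
open Cfsg.Agent.ZN.ChoiceSit (Syl o2_le_syl)
open Cfsg.Agent.Omega.MinPar Cfsg.Agent.Omega.Frame Cfsg.Agent.Omega.FrameNOFF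
open Cfsg.Agent.Omega.NO3b.EZero (NotFF Par oddGen_sup_syl)
open Cfsg.Agent.Omega.NO3b.Alpha (Fl)
open Cfsg.Agent.Omega.NO3b.NoEmp (Lines)
open Cfsg.Agent.Omega.NO3b.Wc
open Cfsg.Agent.MinSimple.VModule (oddGen zc_comm zc_sq le_normalizer_zl le_normalizer_o2)

universe u

section

variable {G : Type u} [Group G]

theorem le_normalizer_inf {X A B : Subgroup G} (hA : X ≤ normalizer (A : Set G))
    (hB : X ≤ normalizer (B : Set G)) : X ≤ normalizer ((A ⊓ B : Subgroup G) : Set G) := by
  intro x hx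
  rw [mem_normalizer_iff_cj, cj_inf, cj_eq_of_mem_normalizer (hA hx), cj_eq_of_mem_normalizer (hB hx)]

theorem le_normalizer_centralizer {X A : Subgroup G} (hA : X ≤ normalizer (A : Set G)) :
    X ≤ normalizer ((centralizer (A : Set G) : Subgroup G) : Set G) := by
  intro x hx
  rw [mem_normalizer_iff_cj, cj_centralizer, cj_eq_of_mem_normalizer (hA hx)]

/-- `L' = ⟨M(L), X⟩` -/
def nx (S L X : Subgroup G) : Subgroup G := ML S L ⊔ X

variable [Finite G]

/-- A member of the chain. -/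
structure Stage (S : Sylow 2 G) (L : Subgroup G) : Prop extends Root S L where
  low : zl (S : Subgroup G) L ≤ o2 (centralizer (zc (S : Subgroup G) : Set G))

/-- A panel of `V(L)` which gives a step of the chain. -/
structure Step (S : Sylow 2 G) (L F T X : Subgroup G) : Prop where
  fl : Fl S (VL (S : Subgroup G) L) F T
  zF : zc (S : Subgroup G) ≤ F
  par : Par (VL (S : Subgroup G) L) F T X
  loc : ∃ R : Subgroup G, R ≠ ⊥ ∧ IsPGroup 2 R ∧ ML (S : Subgroup G) L ≤ normalizer (R : Set G) ∧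
    X ≤ normalizer (R : Set G)
  nff : NotFF (zl (S : Subgroup G) (nx (S : Subgroup G) L X))
  low : zl (S : Subgroup G) (nx (S : Subgroup G) L X) ≤ o2 (centralizer (zc (S : Subgroup G) : Set G))

/-- `L` is reached from `P`. -/
inductive Reach (S : Sylow 2 G) (P : Subgroup G) : Subgroup G → Prop
  | base : Reach S P P
  | step {L F T X : Subgroup G} : Reach S P L → Step S L F T X → Reach S P (nx (S : Subgroup G) L X)

variable {S : Sylow 2 G} {P L F T X : Subgroup G}

/-- The frame of `NoEmp.lean` at a member of the chain. -/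
theorem Stage.lines (h : Stage S L) (hc : IsCharacteristicTwoType G) (hne : zc (S : Subgroup G) ≠ ⊥) :
    Lines S (WH (S : Subgroup G) L) (VL (S : Subgroup G) L) :=
  h.toRoot.lines' hc (Final.stmtOff G) h.low hne

/-- `V(L) ≤ O₂(C_G(D))` for `1 ≠ D ≤ V(L)`. -/
theorem Stage.good (h : Stage S L) (hc : IsCharacteristicTwoType G) {D : Subgroup G}
    (hD : D ≤ VL (S : Subgroup G) L) (hD1 : D ≠ ⊥) : VL (S : Subgroup G) L ≤ o2 (centralizer (D : Set G)) :=
  h.toRoot.good hc (Final.stmtOff G) h.low hD hD1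

/-- (K0) Every panel of `V(L)`, `Z ≤ F`, is local. -/
theorem Stage.loc (h : Stage S L) (hc : IsCharacteristicTwoType G) (hne : zc (S : Subgroup G) ≠ ⊥)
    (f : Fl S (VL (S : Subgroup G) L) F T) (hZ : zc (S : Subgroup G) ≤ F)
    (p : Par (VL (S : Subgroup G) L) F T X) :
    ∃ R : Subgroup G, R ≠ ⊥ ∧ IsPGroup 2 R ∧ ML (S : Subgroup G) L ≤ normalizer (R : Set G) ∧
      X ≤ normalizer (R : Set G) := by
  have h1 := AlphaEnd.exists_loc f (h.lines hc hne) FFBr.aStmt FFBr.ffthm hc hZ p
  rwa [h.toRoot.cs_V] at h1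

/-- The panels of `V(L)` exist. -/
theorem Stage.exists_panel (h : Stage S L) (hc : IsCharacteristicTwoType G) (hne : zc (S : Subgroup G) ≠ ⊥)
    (hnz : ¬ centralizer (zc (S : Subgroup G) : Set G) ≤ normalizer (VL (S : Subgroup G) L : Set G)) :
    ∃ F T X, Fl S (VL (S : Subgroup G) L) F T ∧ zc (S : Subgroup G) ≤ F ∧
      Par (VL (S : Subgroup G) L) F T X := by
  obtain ⟨F, T, f, hZ⟩ := Alpha.exists_fl_zc (h.lines hc hne) hnz
  obtain ⟨X, p⟩ := f.exists_par
  exact ⟨F, T, X, f, hZ, p⟩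

/-- `C_G(Z)` does not normalise `V(L)`. -/
theorem Root.nle (h : Root S L) (hPL : P ≤ L) (hn : NonLoc P (CZ (S : Subgroup G)))
    (hne : zc (S : Subgroup G) ≠ ⊥) :
    ¬ centralizer (zc (S : Subgroup G) : Set G) ≤ normalizer (VL (S : Subgroup G) L : Set G) := by
  intro h0
  have h1 := hn (VL (S : Subgroup G) L) h.V_two ((hPL.trans h.L_le).trans (ML_le_norm_V _ _)) h0
  exact hne (le_bot_iff.1 (Root.zc_le_V.trans h1.le))

namespace Step

variable (s : Step S L F T X)
include s

theorem isLoc (h : Root S L) : IsLoc (S : Subgroup G) (nx (S : Subgroup G) L X) := by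
  obtain ⟨R, hR, hR2, h1, h2⟩ := s.loc
  exact isLoc_of_le_normalizer S (h.S_le.trans le_sup_left) hR2 hR (sup_le h1 h2)

/-- (MIN) -/
theorem min_or (l : Lines S (WH (S : Subgroup G) L) (VL (S : Subgroup G) L)) {K : Subgroup G} (hK : K ≤ X)
    (hKn : X ≤ normalizer (K : Set G)) : oddGen X ≤ K ∨ T ⊓ K ≤ o2 X :=
  K0.min_or (s.fl.sylX s.par) (s.fl.isMinPar l s.par) hK hKn

/-- `O²(X)` does not normalise `V(L)`. -/
theorem oddGen_nle (h : Root S L) : ¬ oddGen X ≤ normalizer (VL (S : Subgroup G) L : Set G) := by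
  intro h0
  apply s.par.nle
  rw [← oddGen_sup_syl (s.fl.sylX s.par)]
  exact sup_le h0 (s.fl.T_le.trans (h.S_le.trans (ML_le_norm_V _ _)))

omit s [Finite G] in
theorem ML_le : ML (S : Subgroup G) L ≤ nx (S : Subgroup G) L X := le_sup_left

omit s [Finite G] in
theorem X_le : X ≤ nx (S : Subgroup G) L X := le_sup_right

omit s [Finite G] in
/-- `V(L) ≤ V_{L'}` -/
theorem V_le : VL (S : Subgroup G) L ≤ zl (S : Subgroup G) (nx (S : Subgroup G) L X) :=
  NOThreeL.Star.zl_mono _ ML_le

/-- `W(L) ≤ T` -/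
theorem WH_le (h : Root S L) : WH (S : Subgroup G) L ≤ T := by
  rw [← h.cs_V]
  exact s.fl.Q0_le

omit s in
/-- `C_S(V_{L'})` in terms of `W(L)`. -/
theorem cs_eq (h : Root S L) :
    (S : Subgroup G) ⊓ centralizer (zl (S : Subgroup G) (nx (S : Subgroup G) L X) : Set G) =
      WH (S : Subgroup G) L ⊓ centralizer (zl (S : Subgroup G) (nx (S : Subgroup G) L X) : Set G) :=
  le_antisymm (le_inf ((inf_le_inf_left _ (centralizer_le (V_le (X := X)))).trans h.cs_V.le) inf_le_right)
    (inf_le_inf_right _ (WH_le_S _ _))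

/-- `C_S(V_{L'})` in terms of `O₂(X)`. -/
theorem cs_eq' (h : Root S L) (l : Lines S (WH (S : Subgroup G) L) (VL (S : Subgroup G) L)) :
    (S : Subgroup G) ⊓ centralizer (zl (S : Subgroup G) (nx (S : Subgroup G) L X) : Set G) =
      o2 X ⊓ centralizer (zl (S : Subgroup G) (nx (S : Subgroup G) L X) : Set G) := by
  have hX : X ≤ normalizer (zl (S : Subgroup G) (nx (S : Subgroup G) L X) : Set G) :=
    X_le.trans (le_normalizer_zl _ _)
  apply le_antisymm
  · refine le_inf ?_ inf_le_right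
    rcases s.min_or l (K := X ⊓ centralizer (zl (S : Subgroup G) (nx (S : Subgroup G) L X) : Set G)) inf_le_left
      (le_normalizer_inf Subgroup.le_normalizer (le_normalizer_centralizer hX)) with h1 | h1
    · exfalso
      apply s.oddGen_nle h
      exact ((h1.trans inf_le_right).trans (centralizer_le V_le)).trans (centralizer_le_normalizer _)
    · rw [cs_eq h]
      exact (le_inf (inf_le_left.trans (s.WH_le h)) (le_inf ((inf_le_left.trans (s.WH_le h)).trans s.par.T_le)
        inf_le_right)).trans h1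
  · exact inf_le_inf_right _ ((o2_le_syl (s.fl.sylX s.par)).trans s.fl.T_le)

/-- **The next member.** -/
theorem next (hc : IsCharacteristicTwoType G) (h : Root S L)
    (l : Lines S (WH (S : Subgroup G) L) (VL (S : Subgroup G) L)) : Stage S (nx (S : Subgroup G) L X) := by
  have hz := (s.isLoc h).zl_le S hc
  refine { le := h.S_le.trans le_sup_left, comm := ?_, sq := fun v hv => zc_sq _ v (hz hv), nff := s.nff,
           cs := sup_le ?_ ?_, low := s.low }
  · intro x hx
    rw [mem_centralizer_iff]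
    intro y hy
    exact zc_comm _ _ (hz hy) _ (hz hx)
  · rw [cs_eq h]
    exact le_normalizer_inf le_rfl (le_normalizer_centralizer (ML_le.trans (le_normalizer_zl _ _)))
  · rw [s.cs_eq' h l]
    exact le_normalizer_inf (le_normalizer_o2 X) (le_normalizer_centralizer (X_le.trans (le_normalizer_zl _ _)))

omit s in
/-- `M(L) ≤ M(L')` -/
theorem ML_le_ML (h' : Root S (nx (S : Subgroup G) L X)) :
    ML (S : Subgroup G) L ≤ ML (S : Subgroup G) (nx (S : Subgroup G) L X) := ML_le.trans h'.L_le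

/-- `V(L) < V(L')` -/
theorem lt (h' : Root S (nx (S : Subgroup G) L X)) :
    VL (S : Subgroup G) L < VL (S : Subgroup G) (nx (S : Subgroup G) L X) := by
  refine lt_of_le_of_ne (V_le.trans h'.zl_le_V) fun h1 => s.par.nle ?_
  rw [h1]
  exact (X_le.trans h'.L_le).trans (ML_le_norm_V _ _)

end Step

theorem Reach.stage (hc : IsCharacteristicTwoType G) (hne : zc (S : Subgroup G) ≠ ⊥) (hP : Stage S P)
    (r : Reach S P L) : Stage S L := by
  induction r with
  | base => exact hP
  | step _ s ih => exact s.next hc ih.toRoot (ih.lines hc hne)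

theorem Reach.trans {L' : Subgroup G} (r : Reach S P L) (r' : Reach S L L') : Reach S P L' := by
  induction r' with
  | base => exact r
  | step _ s ih => exact ih.step s

/-- `P ≤ L` -/
theorem Reach.le (hc : IsCharacteristicTwoType G) (hne : zc (S : Subgroup G) ≠ ⊥) (hP : Stage S P)
    (r : Reach S P L) : P ≤ L := by
  induction r with
  | base => exact le_rfl
  | step r s ih => exact ih.trans ((r.stage hc hne hP).L_le.trans Step.ML_le)

/-- `M(P) ≤ M(L)` -/
theorem Reach.ML_le (hc : IsCharacteristicTwoType G) (hne : zc (S : Subgroup G) ≠ ⊥) (hP : Stage S P)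
    (r : Reach S P L) : ML (S : Subgroup G) P ≤ ML (S : Subgroup G) L := by
  induction r with
  | base => exact le_rfl
  | step r s ih => exact ih.trans (Step.ML_le_ML ((r.step s).stage hc hne hP).toRoot)

/-- `V(P) ≤ V(L)` -/
theorem Reach.V_le (hc : IsCharacteristicTwoType G) (hne : zc (S : Subgroup G) ≠ ⊥) (hP : Stage S P)
    (r : Reach S P L) : VL (S : Subgroup G) P ≤ VL (S : Subgroup G) L := by
  induction r with
  | base => exact le_rfl
  | step r s ih => exact ih.trans (s.lt ((r.step s).stage hc hne hP).toRoot).le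

/-- **The last member of the chain.** -/
theorem exists_last (hc : IsCharacteristicTwoType G) (hne : zc (S : Subgroup G) ≠ ⊥) (hP : Stage S P) :
    ∃ L, Reach S P L ∧ ∀ F T X, ¬ Step S L F T X := by
  obtain ⟨L, hL, hmax⟩ := Set.exists_max_image {L : Subgroup G | Reach S P L}
    (fun L => Nat.card (VL (S : Subgroup G) L)) (Set.toFinite _) ⟨P, Reach.base⟩
  refine ⟨L, hL, fun F T X s => ?_⟩
  have h1 := s.lt ((Reach.step hL s).stage hc hne hP).toRoot
  have h2 := hmax _ (Reach.step hL s)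
  exact h1.ne (Subgroup.eq_of_le_of_card_ge h1.le h2)

/-- At the last member every panel is local and has `V_{L'}` FF or not in `O₂(C_G(Z))`. -/
theorem last_or (hc : IsCharacteristicTwoType G) (hne : zc (S : Subgroup G) ≠ ⊥) (h : Stage S L)
    (hl : ∀ F T X, ¬ Step S L F T X) (f : Fl S (VL (S : Subgroup G) L) F T) (hZ : zc (S : Subgroup G) ≤ F)
    (p : Par (VL (S : Subgroup G) L) F T X) : ¬ NotFF (zl (S : Subgroup G) (nx (S : Subgroup G) L X)) ∨
      ¬ zl (S : Subgroup G) (nx (S : Subgroup G) L X) ≤ o2 (centralizer (zc (S : Subgroup G) : Set G)) := by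
  by_contra hcon
  push Not at hcon
  exact hl F T X ⟨f, hZ, p, h.loc hc hne f hZ p, hcon.1, hcon.2⟩

theorem stage_of (hc : IsCharacteristicTwoType G) (hP : IsParS (S : Subgroup G) P)
    (h : ¬ NO3S.FFMod (S : Subgroup G) P)
    (hz : zl (S : Subgroup G) P ≤ o2 (centralizer (zc (S : Subgroup G) : Set G))) : Stage S P :=
  ⟨Final.root_of hc hP h, hz⟩

end

variable (K : Cls.{u})

/-- **The local exit at the last member `L` of the chain.** -/
def LocChain : Prop :=
  ∀ (G : Type u) [Group G] [Finite G], K G → ∀ S : Sylow 2 G, NO3S.HypC S →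
    (∀ P : Subgroup G, IsParS (S : Subgroup G) P → NonLoc P (CZ (S : Subgroup G)) →
      ¬ NO3S.FFMod (S : Subgroup G) P) →
    ∀ P L : Subgroup G, IsParS (S : Subgroup G) P → NonLoc P (CZ (S : Subgroup G)) → Stage S P →
      Reach S P L → Stage S L → Lines S (WH (S : Subgroup G) L) (VL (S : Subgroup G) L) →
        ¬ centralizer (zc (S : Subgroup G) : Set G) ≤ normalizer (VL (S : Subgroup G) L : Set G) →
        (∀ F T X : Subgroup G, ¬ Step S L F T X) → IsKnownSimple' G

variable {K}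

/-- **The leaf NotFF from the local exit at the last member of the chain.** -/
theorem notFF_of_locChain (hL : LocChain K) : NO3S.NotFF K := by
  intro G _ _ hK S h hff
  obtain ⟨P, hP, hn⟩ := h.ex
  have hne : zc (S : Subgroup G) ≠ ⊥ := by
    intro h0
    have h1 : (S : Subgroup G) = ⊥ := by
      by_contra hS
      exact MinSimple.Basic.zc_ne_bot S.isPGroup' hS h0
    have h2 := hP.toIsPar.isLoc
    exact h2.o2_ne (le_bot_iff.1 ((h2.o2_le S).trans h1.le))
  have hst := stage_of h.ctx.char2 hP (hff P hP hn) (h.low P hP)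
  obtain ⟨L, r, hl⟩ := exists_last h.ctx.char2 hne hst
  have hsl := r.stage h.ctx.char2 hne hst
  exact hL G hK S h hff P L hP hn hst r hsl (hsl.lines h.ctx.char2 hne)
    (Root.nle hsl.toRoot (r.le h.ctx.char2 hne hst) hn hne) hl

end Cfsg.Agent.Omega.NO3b.Chain

end

section


/-!
# NotFF (c), local exit: LEMMA T along the chain (helper235, #18967 (4))

`L` is reached from `P`, `M = M(L)` normalises a subgroup `R`, `D = S ∩ R`.

* `le_WH_of_cent` : (T1) `[V_L, D] = 1` implies `D ≤ W(L)`;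
* `Step.cent_of_le` : (T2) `D ≤ W(L)`, `O²(X) ≰ R` imply `[V_{L'}, D] = 1`;
* `lemT`, `lemT_WH` : **LEMMA T**: `[V_P, D] = 1` implies `[V(L), D] = 1`, if `O²(X) ≰ R` for all panels `X` used;
* `lemT_fix` : the same if `O²(X)` centralises `C_{V(L)}(D)` for all `X ≤ C_M(Z)` with `O²(X) ≤ R`;
* `oddGen_le` : if `[V(L), D] ≠ 1`, then `O²(P) ≤ R`, `P ∈ P*(S)`.
-/

set_option autoImplicit false

namespace Cfsg.Agent.Omega.NO3b.Chain

open Subgroup Cfsg
open Cfsg.Agent.ZN (o2 zc zl jj zj)
open Cfsg.Agent.ZN.ChoiceBase hiding mem_zc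
open Cfsg.Agent.ZN.ChoiceSit (Syl o2_le_syl)
open Cfsg.Agent.Omega.MinPar Cfsg.Agent.Omega.Frame
open Cfsg.Agent.Omega.NO3b.EZero (NotFF Par cent_symm)
open Cfsg.Agent.Omega.NO3b.Alpha (Fl)
open Cfsg.Agent.Omega.NO3b.NoEmp (Lines)
open Cfsg.Agent.Omega.NO3b.Wc
open Cfsg.Agent.MinSimple.VModule (oddGen oddGen_le oddGen_le_of_sup le_normalizer_zl le_normalizer_o2 zl_le
  le_centralizer_zc)

universe u

variable {G : Type u} [Group G] [Finite G] {S : Sylow 2 G} {P L F T X R : Subgroup G}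

omit [Finite G] in
/-- `D = S ∩ R` is invariant under the elements of `N_G(R)` which keep it in `S`. -/
theorem cj_inf_le {M : Subgroup G} (hR : M ≤ normalizer (R : Set G)) {g : G} (hg : g ∈ M)
    (h : cj g ((S : Subgroup G) ⊓ R) ≤ (S : Subgroup G)) :
    cj g ((S : Subgroup G) ⊓ R) ≤ (S : Subgroup G) ⊓ R := by
  refine le_inf h ?_
  rw [cj_inf, cj_eq_of_mem_normalizer (hR hg)]
  exact inf_le_right

/-- **(T1)** -/
theorem le_WH_of_cent (hR : ML (S : Subgroup G) L ≤ normalizer (R : Set G))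
    (hD : (S : Subgroup G) ⊓ R ≤ centralizer (zl (S : Subgroup G) L : Set G)) :
    (S : Subgroup G) ⊓ R ≤ WH (S : Subgroup G) L := by
  set K : Subgroup G := (S : Subgroup G) ⊓ R ⊔ WH (S : Subgroup G) L with hK
  have hKQ : K ≤ QL (S : Subgroup G) L := sup_le (le_inf inf_le_left hD) (WH_le _ _)
  refine (le_sup_left : (S : Subgroup G) ⊓ R ≤ K).trans (le_WH ⟨hKQ.trans inf_le_left, fun g hg => ?_⟩ hKQ)
  have h2 : g ∈ ML (S : Subgroup G) L := mem_ML_of_le ((cj_mono g le_sup_right).trans hg)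
  have h4 : cj g K ≤ K := by
    change Subgroup.map _ _ ≤ _
    rw [hK, Subgroup.map_sup]
    refine sup_le_sup (cj_inf_le hR h2 ((cj_mono g le_sup_left).trans hg)) ?_
    exact (cj_eq_of_mem_normalizer h2).le
  exact Subgroup.eq_of_le_of_card_ge h4 (card_cj _ _).ge

/-- **(T2)** -/
theorem Step.cent_of_le (s : Step S L F T X) (h : Root S L)
    (l : Lines S (WH (S : Subgroup G) L) (VL (S : Subgroup G) L))
    (hR : nx (S : Subgroup G) L X ≤ normalizer (R : Set G)) (hD : (S : Subgroup G) ⊓ R ≤ WH (S : Subgroup G) L)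
    (hX : ¬ oddGen X ≤ R) :
    (S : Subgroup G) ⊓ R ≤ centralizer (zl (S : Subgroup G) (nx (S : Subgroup G) L X) : Set G) := by
  have h1 : (S : Subgroup G) ⊓ R = WH (S : Subgroup G) L ⊓ R :=
    le_antisymm (le_inf hD inf_le_right) (inf_le_inf_right _ (WH_le_S _ _))
  have h2 : (S : Subgroup G) ⊓ R = o2 X ⊓ R := by
    apply le_antisymm
    · refine le_inf ?_ inf_le_right
      rcases s.min_or l (K := X ⊓ R) inf_le_left
        (le_normalizer_inf Subgroup.le_normalizer (Step.X_le.trans hR)) with h3 | h3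
      · exact absurd (h3.trans inf_le_right) hX
      · have h4 : (S : Subgroup G) ⊓ R ≤ T := hD.trans (s.WH_le h)
        exact (le_inf h4 (le_inf (h4.trans s.par.T_le) inf_le_right)).trans h3
    · exact inf_le_inf_right _ ((o2_le_syl (s.fl.sylX s.par)).trans s.fl.T_le)
  have h5 : nx (S : Subgroup G) L X ≤ normalizer (((S : Subgroup G) ⊓ R : Subgroup G) : Set G) := by
    refine sup_le ?_ ?_
    · rw [h1]
      exact le_normalizer_inf le_rfl (Step.ML_le.trans hR)
    · rw [h2]
      exact le_normalizer_inf (le_normalizer_o2 X) (Step.X_le.trans hR)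
  refine cent_symm (zl_le ?_ (le_normalizer_centralizer h5))
  exact cent_symm (inf_le_left.trans (le_centralizer_zc _))

/-- **LEMMA T** along the chain, `D ≤ W(L)`. -/
theorem lemT_WH (hc : IsCharacteristicTwoType G) (hne : zc (S : Subgroup G) ≠ ⊥) (hP : Stage S P)
    (r : Reach S P L) (hR : ML (S : Subgroup G) L ≤ normalizer (R : Set G))
    (hX : ∀ L₁ F T X : Subgroup G, Reach S P L₁ → Step S L₁ F T X → Reach S (nx (S : Subgroup G) L₁ X) L →
      (S : Subgroup G) ⊓ R ≤ WH (S : Subgroup G) L₁ → ¬ oddGen X ≤ R)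
    (h0 : (S : Subgroup G) ⊓ R ≤ centralizer (zl (S : Subgroup G) P : Set G)) :
    (S : Subgroup G) ⊓ R ≤ WH (S : Subgroup G) L := by
  have key : ∀ L₁ : Subgroup G, Reach S P L₁ → Reach S L₁ L →
      (S : Subgroup G) ⊓ R ≤ centralizer (zl (S : Subgroup G) L₁ : Set G) := by
    intro L₁ r₁
    induction r₁ with
    | base => exact fun _ => h0
    | @step L₂ F T X r₂ s ih =>
      intro r₃
      have hs := r₂.stage hc hne hP
      have hs' := (r₂.step s).stage hc hne hP
      have r₄ : Reach S L₂ L := (Reach.base.step s).trans r₃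
      have h1 := le_WH_of_cent ((r₄.ML_le hc hne hs).trans hR) (ih r₄)
      exact s.cent_of_le hs.toRoot (hs.lines hc hne) ((hs'.L_le.trans (r₃.ML_le hc hne hs')).trans hR) h1
        (hX L₂ F T X r₂ s r₃ h1)
  exact le_WH_of_cent hR (key L r Reach.base)

/-- **LEMMA T** along the chain. -/
theorem lemT (hc : IsCharacteristicTwoType G) (hne : zc (S : Subgroup G) ≠ ⊥) (hP : Stage S P)
    (r : Reach S P L) (hR : ML (S : Subgroup G) L ≤ normalizer (R : Set G))
    (hX : ∀ L₁ F T X : Subgroup G, Reach S P L₁ → Step S L₁ F T X → Reach S (nx (S : Subgroup G) L₁ X) L →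
      (S : Subgroup G) ⊓ R ≤ WH (S : Subgroup G) L₁ → ¬ oddGen X ≤ R)
    (h0 : (S : Subgroup G) ⊓ R ≤ centralizer (zl (S : Subgroup G) P : Set G)) :
    (S : Subgroup G) ⊓ R ≤ centralizer (VL (S : Subgroup G) L : Set G) :=
  (lemT_WH hc hne hP r hR hX h0).trans (r.stage hc hne hP).WH_cent

/-- The panels used: `X ≤ C_M(Z)`, and `O²(X)` does not centralise `C_{V(L)}(D)` if `D ≤ W(L₁)`. -/
theorem not_cent_of (hc : IsCharacteristicTwoType G) (hne : zc (S : Subgroup G) ≠ ⊥) (hP : Stage S P)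
    {L₁ : Subgroup G} (r₁ : Reach S P L₁) (s : Step S L₁ F T X) (r₃ : Reach S (nx (S : Subgroup G) L₁ X) L)
    (hD : (S : Subgroup G) ⊓ R ≤ WH (S : Subgroup G) L₁) :
    X ≤ ML (S : Subgroup G) L ∧ X ≤ centralizer (zc (S : Subgroup G) : Set G) ∧
      ¬ oddGen X ≤ centralizer ((VL (S : Subgroup G) L ⊓
        centralizer (((S : Subgroup G) ⊓ R : Subgroup G) : Set G) : Subgroup G) : Set G) := by
  have hs := r₁.stage hc hne hP
  have hs' := (r₁.step s).stage hc hne hP
  refine ⟨(Step.X_le.trans hs'.L_le).trans (r₃.ML_le hc hne hs'), s.par.le.trans (centralizer_le s.zF), ?_⟩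
  intro h1
  apply s.oddGen_nle hs.toRoot
  refine (h1.trans (centralizer_le ?_)).trans (centralizer_le_normalizer _)
  refine le_inf ((s.lt hs'.toRoot).le.trans (r₃.V_le hc hne hs')) ?_
  exact cent_symm (hD.trans hs.WH_cent)

/-- **LEMMA T**, the panels excluded by the action on `C_{V(L)}(D)`. -/
theorem lemT_fix (hc : IsCharacteristicTwoType G) (hne : zc (S : Subgroup G) ≠ ⊥) (hP : Stage S P)
    (r : Reach S P L) (hR : ML (S : Subgroup G) L ≤ normalizer (R : Set G))
    (hX : ∀ X : Subgroup G, X ≤ ML (S : Subgroup G) L → X ≤ centralizer (zc (S : Subgroup G) : Set G) →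
      oddGen X ≤ R → oddGen X ≤ centralizer ((VL (S : Subgroup G) L ⊓
        centralizer (((S : Subgroup G) ⊓ R : Subgroup G) : Set G) : Subgroup G) : Set G))
    (h0 : (S : Subgroup G) ⊓ R ≤ centralizer (zl (S : Subgroup G) P : Set G)) :
    (S : Subgroup G) ⊓ R ≤ centralizer (VL (S : Subgroup G) L : Set G) := by
  refine lemT hc hne hP r hR (fun L₁ F T X r₁ s r₃ hD hXR => ?_) h0
  obtain ⟨h1, h2, h3⟩ := not_cent_of hc hne hP r₁ s r₃ hD
  exact h3 (hX X h1 h2 hXR)

/-- `O²(P) ≤ R` or `[V_P, D] = 1`. -/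
theorem oddGen_le_or (hc : IsCharacteristicTwoType G) (hP : IsPar (S : Subgroup G) P)
    (hR : P ≤ normalizer (R : Set G)) :
    oddGen P ≤ R ∨ (S : Subgroup G) ⊓ R ≤ centralizer (zl (S : Subgroup G) P : Set G) := by
  rcases hP.sup_eq_or_inf_le S (N := P ⊓ R) inf_le_left
    (le_normalizer_inf Subgroup.le_normalizer hR) with h1 | h1
  · left
    exact (oddGen_le_of_sup (le_normalizer_inf Subgroup.le_normalizer hR) h1.ge hP.le inf_le_left
      S.isPGroup').trans inf_le_right
  · right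
    have h2 : (S : Subgroup G) ⊓ R ≤ o2 P :=
      (le_inf inf_le_left (le_inf (inf_le_left.trans hP.le) inf_le_right)).trans h1
    exact (h2.trans (le_centralizer_zc _)).trans (centralizer_le (hP.isLoc.zl_le S hc))

/-- **If `[V(L), D] ≠ 1`, then `O²(P) ≤ R`.** -/
theorem oddGen_le_of_not (hc : IsCharacteristicTwoType G) (hne : zc (S : Subgroup G) ≠ ⊥)
    (hPar : IsPar (S : Subgroup G) P) (hP : Stage S P)
    (r : Reach S P L) (hR : ML (S : Subgroup G) L ≤ normalizer (R : Set G))
    (hX : ∀ X : Subgroup G, X ≤ ML (S : Subgroup G) L → X ≤ centralizer (zc (S : Subgroup G) : Set G) →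
      oddGen X ≤ R → oddGen X ≤ centralizer ((VL (S : Subgroup G) L ⊓
        centralizer (((S : Subgroup G) ⊓ R : Subgroup G) : Set G) : Subgroup G) : Set G))
    (hV : ¬ (S : Subgroup G) ⊓ R ≤ centralizer (VL (S : Subgroup G) L : Set G)) : oddGen P ≤ R :=
  (oddGen_le_or hc hPar (((r.le hc hne hP).trans (r.stage hc hne hP).L_le).trans hR)).resolve_right
    fun h0 => hV (lemT_fix hc hne hP r hR hX h0)

end Cfsg.Agent.Omega.NO3b.Chain

end
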